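import Cfsg.Prelude.Def_CaseTheorems
import Cfsg.Agent.PPrimeAbelian.Basic
import Cfsg.Agent.OddEnd.FourteenFinal
import Cfsg.Agent.FGSA.Nilpotent
import Cfsg.Agent.ZJ.Involve

/-!
Groups in which every subgroup of order prime to `p` is nilpotent: inheritance, and the facts about
a minimal counterexample for `p > 3`.
-/

set_option autoImplicit false
set_option linter.style.haveILetI false
set_option linter.unusedSectionVars false

namespace CfsgLib.PPrimeNil

open Subgroup

universe u

/-- Every subgroup of order prime to `p` is nilpotent. -/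
def Hyp (p : ℕ) (G : Type u) [Group G] : Prop :=
  ∀ H : Subgroup G, (Nat.card ↥H).Coprime p → Group.IsNilpotent ↥H

/-- A minimal counterexample. -/
structure Ctx (p : ℕ) (G : Type u) [Group G] : Prop where
  hp5 : 5 ≤ p
  hyp : Hyp p G
  hmin : Cfsg.IsMinimalSimple G

section General

variable {G : Type u} [Group G] [Finite G] {p : ℕ} [hp : Fact p.Prime]

theorem Hyp.subgroup (h : Hyp p G) (L : Subgroup G) : Hyp p L := by
  intro H hH
  haveI : Group.IsNilpotent ↥(H.map L.subtype) :=
    h _ (by rwa [card_map_of_injective L.subtype_injective])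
  exact Group.nilpotent_of_mulEquiv (equivMapOfInjective H L.subtype L.subtype_injective).symm

/-- A solvable group with the hypothesis maps its subgroups of order prime to `p` onto nilpotent groups. -/
theorem Hyp.of_surjective (h : Hyp p G) [Group.IsSolvable G] {X : Type*} [Group X] [Finite X]
    (f : G →* X) (hf : Function.Surjective f) (hX : (Nat.card X).Coprime p) : Group.IsNilpotent X := by
  obtain ⟨H, h1, h2, -⟩ := CfsgLib.Hall.hall_pi (G := G) (fun q => q ≠ p)
  haveI := h H (hp.out.coprime_iff_not_dvd.2 fun hd => h1 p hp.out hd rfl).symm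
  have htop : H.map f = ⊤ := by
    rw [← index_eq_one]
    by_contra hne
    obtain ⟨q, hq, hqd⟩ := Nat.exists_prime_and_dvd hne
    have hqp : q = p := not_not.1 (h2 q hq (hqd.trans (index_map_dvd H hf)))
    subst hqp
    exact hp.out.coprime_iff_not_dvd.1 hX.symm (hqd.trans (index_dvd_card _))
  refine Group.nilpotent_of_surjective (f.comp H.subtype) fun x => ?_
  obtain ⟨g, hg, rfl⟩ := (htop ▸ mem_top x : x ∈ H.map f)
  exact ⟨⟨g, hg⟩, rfl⟩

/-- In a subgroup of order prime to `p`, elements of coprime orders commute. -/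
theorem Hyp.commute (h : Hyp p G) {H : Subgroup G} (hH : (Nat.card H).Coprime p) {a b : G}
    (ha : a ∈ H) (hb : b ∈ H) (hab : (orderOf a).Coprime (orderOf b)) : a * b = b * a := by
  haveI := h H hH
  exact congrArg Subtype.val (CfsgLib.FGSA.commute_of_coprime_orderOf (⟨a, ha⟩ : H) ⟨b, hb⟩
    (by rwa [orderOf_mk, orderOf_mk])).eq

/-- An element of order prime to `p` normalizing a `p'`-subgroup of coprime order centralizes it. -/
theorem Hyp.centralizes (h : Hyp p G) {A : Subgroup G} (hA : (Nat.card A).Coprime p) {g : G}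
    (hg : g ∈ normalizer (A : Set G)) (hgo : (orderOf g).Coprime p)
    (hgA : (orderOf g).Coprime (Nat.card A)) : g ∈ centralizer (A : Set G) := by
  have hc : (Nat.card ↥(zpowers g ⊔ A)).Coprime p :=
    Nat.Coprime.coprime_dvd_left (CfsgLib.Solvable.card_sup_dvd (zpowers_le.2 hg))
      (Nat.Coprime.mul_left (by rwa [Nat.card_zpowers]) hA)
  exact mem_centralizer_iff.2 fun a ha => h.commute hc (mem_sup_right ha)
    (mem_sup_left (mem_zpowers g)) (hgA.symm.coprime_dvd_left (Subgroup.orderOf_dvd_natCard A ha))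

/-- An element of odd order prime to `p` normalizing a `2`-subgroup centralizes it. -/
theorem Hyp.centralizes_two (h : Hyp p G) (hp2 : p ≠ 2) {A : Subgroup G} (hA : IsPGroup 2 A) {g : G}
    (hg : g ∈ normalizer (A : Set G)) (hgo : Odd (orderOf g)) (hgp : (orderOf g).Coprime p) :
    g ∈ centralizer (A : Set G) := by
  haveI : Fact (Nat.Prime 2) := ⟨Nat.prime_two⟩
  obtain ⟨k, hk⟩ := IsPGroup.iff_card.1 hA
  refine h.centralizes ?_ hg hgp ?_
  · exact hk ▸ ((Nat.coprime_primes Nat.prime_two hp.out).2 hp2.symm).pow_left k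
  · exact hk ▸ (Nat.coprime_two_right.2 hgo).pow_right k

/-- The hypothesis forces solvability as soon as all proper subgroups are solvable and some proper
normal subgroup is nontrivial. -/
theorem solvable_of_normal (h : Hyp p G) (hsub : ∀ H : Subgroup G, H ≠ ⊤ → Group.IsSolvable H)
    (N : Subgroup G) [N.Normal] (hN1 : N ≠ ⊤)
    (ih : Hyp p (G ⧸ N) → Group.IsSolvable (G ⧸ N)) : Group.IsSolvable G := by
  haveI := hsub N hN1
  set f := QuotientGroup.mk' N
  have hf : Function.Surjective f := QuotientGroup.mk'_surjective N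
  suffices hq : Group.IsSolvable (G ⧸ N) by
    haveI := hq
    exact Group.isSolvable_of_ker_le_range N.subtype f (by rw [QuotientGroup.ker_mk', range_subtype])
  by_cases hp' : (Nat.card (G ⧸ N)).Coprime p
  · obtain ⟨P⟩ : Nonempty (Sylow p N) := inferInstance
    set PG := (P : Subgroup N).map N.subtype
    have hfr : normalizer (PG : Set G) ⊔ N = ⊤ := Sylow.normalizer_sup_eq_top P
    have hmap : ∀ x : G ⧸ N, ∃ g ∈ normalizer (PG : Set G), f g = x := by
      intro x
      obtain ⟨g, rfl⟩ := hf x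
      obtain ⟨a, ha, b, hb, rfl⟩ := (CfsgLib.Solvable.mem_sup_of_le_normalizer
        (le_normalizer_of_normal : normalizer (PG : Set G) ≤ normalizer (N : Set G))).1 (hfr ▸ mem_top g)
      exact ⟨a, ha, by rw [map_mul, show f b = 1 from (QuotientGroup.eq_one_iff b).2 hb, mul_one]⟩
    by_cases hNP : normalizer (PG : Set G) = ⊤
    · haveI : PG.Normal := normalizer_eq_top_iff.1 hNP
      have hidx : ¬ p ∣ PG.index := by
        rw [← relIndex_mul_index (map_subtype_le (P : Subgroup N)), relIndex, ← comap_subtype,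
          comap_map_eq_self_of_injective N.subtype_injective]
        intro hd
        rcases hp.out.dvd_mul.1 hd with h1 | h1
        · exact P.not_dvd_index h1
        · exact hp.out.coprime_iff_not_dvd.1 hp'.symm (index_eq_card N ▸ h1)
      obtain ⟨k, hk⟩ := IsPGroup.iff_card.1 (P.2.map N.subtype)
      obtain ⟨H, hH⟩ := exists_right_complement'_of_coprime (N := PG)
        (hk ▸ ((hp.out.coprime_iff_not_dvd.2 hidx).pow_left k))
      have hHc : (Nat.card H).Coprime p := by
        rw [← hH.symm.index_eq_card]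
        exact (hp.out.coprime_iff_not_dvd.2 hidx).symm
      haveI := h H hHc
      refine Group.isSolvable_of_surjective (f := f.comp H.subtype) fun x => ?_
      obtain ⟨g, rfl⟩ := hf x
      obtain ⟨⟨a, b⟩, hab' : (a : G) * b = g⟩ := hH.2 g
      refine ⟨b, ?_⟩
      rw [← hab', map_mul, show f a = 1 from (QuotientGroup.eq_one_iff (a : G)).2 (map_subtype_le _ a.2),
        one_mul]
      rfl
    · haveI := hsub _ hNP
      refine Group.isSolvable_of_surjective (f := f.comp (normalizer (PG : Set G)).subtype) fun x => ?_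
      obtain ⟨g, hg, hgx⟩ := hmap x
      exact ⟨⟨g, hg⟩, hgx⟩
  · refine ih fun K hK => ?_
    have hL : K.comap f ≠ ⊤ := by
      intro htop
      apply hp'
      have hK' : K = ⊤ := by
        rw [← map_comap_eq_self_of_surjective hf K, htop, map_top_of_surjective f hf]
      rwa [hK', card_top] at hK
    haveI := hsub _ hL
    exact (h.subgroup _).of_surjective (f.subgroupComap K)
      (f.subgroupComap_surjective_of_surjective K hf) hK

end General

section Min

variable {G : Type u} [Group G] [Finite G] {p : ℕ} [hp : Fact p.Prime]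
variable (c : Ctx p G)
include c

theorem Ctx.p_ne_two : p ≠ 2 := by have := c.hp5; omega

theorem Ctx.p_odd : Odd p := hp.out.odd_of_ne_two c.p_ne_two

theorem Ctx.not_comm : ¬ IsMulCommutative G := c.hmin.2.1

theorem Ctx.solvable {H : Subgroup G} (hH : H ≠ ⊤) : Group.IsSolvable H := c.hmin.2.2 H hH

theorem Ctx.eq_bot_or_eq_top {N : Subgroup G} (hN : N.Normal) : N = ⊥ ∨ N = ⊤ :=
  haveI := c.hmin.1
  IsSimpleGroup.eq_bot_or_eq_top_of_normal N hN

theorem Ctx.not_solvable : ¬ Group.IsSolvable G := by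
  intro hs
  haveI := c.hmin.1
  apply c.not_comm
  have h := Group.IsSolvable.commutator_lt_top_of_nontrivial G
  rcases c.eq_bot_or_eq_top (inferInstance : (commutator G).Normal) with h' | h'
  · exact ⟨⟨fun a b => commutatorElement_eq_one_iff_mul_comm.1 (mem_bot.1 (h' ▸
      (commutator_def G).symm ▸ commutator_mem_commutator (mem_top a) (mem_top b)))⟩⟩
  · exact absurd h' h.ne

theorem Ctx.ne_top_of_solvable {H : Subgroup G} (hH : Group.IsSolvable H) : H ≠ ⊤ := by
  rintro rfl
  exact c.not_solvable (Group.isSolvable_of_surjective (f := (topEquiv : (⊤ : Subgroup G) ≃* G).toMonoidHom)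
    (MulEquiv.surjective _))

theorem Ctx.ne_top_of_isPGroup {q : ℕ} [Fact q.Prime] {H : Subgroup G} (hH : IsPGroup q H) : H ≠ ⊤ :=
  haveI := hH.isNilpotent
  c.ne_top_of_solvable inferInstance

theorem Ctx.normalizer_ne_top {K : Subgroup G} (h1 : K ≠ ⊥) (h2 : K ≠ ⊤) :
    normalizer (K : Set G) ≠ ⊤ := fun h =>
  (c.eq_bot_or_eq_top (normalizer_eq_top_iff.1 h)).elim h1 h2

theorem Ctx.normalizer_ne_top_of_isPGroup {q : ℕ} [Fact q.Prime] {K : Subgroup G} (hK : IsPGroup q K)
    (h1 : K ≠ ⊥) : normalizer (K : Set G) ≠ ⊤ :=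
  c.normalizer_ne_top h1 (c.ne_top_of_isPGroup hK)

theorem Ctx.center_eq_bot : center G = ⊥ :=
  (c.eq_bot_or_eq_top inferInstance).resolve_right fun h =>
    c.not_comm ⟨⟨fun a b => (mem_center_iff.1 (h ▸ mem_top b) a)⟩⟩

theorem Ctx.centralizer_ne_top {x : G} (hx : x ≠ 1) : centralizer ({x} : Set G) ≠ ⊤ := by
  intro h
  refine hx (mem_bot.1 (c.center_eq_bot ▸ ?_))
  exact mem_center_iff.2 fun g => mem_centralizer_singleton_iff.1 (h ▸ mem_top g)

theorem Ctx.normalCore_eq_bot {M : Subgroup G} (hM : M ≠ ⊤) : M.normalCore = ⊥ :=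
  (c.eq_bot_or_eq_top inferInstance).resolve_right fun h => hM (top_le_iff.1 (h ▸ normalCore_le M))

theorem Ctx.two_dvd : 2 ∣ Nat.card G := by
  by_contra h
  exact c.not_solvable (CfsgLib.OddEnd.odd_solvable G
    (Nat.not_even_iff_odd.1 fun he => h (even_iff_two_dvd.1 he)))

theorem Ctx.not_hasNormalPComplement {q : ℕ} [hq : Fact q.Prime] (hd : q ∣ Nat.card G) :
    ¬ Cfsg.HasNormalPComplement q G := by
  rintro ⟨P, K, hK, hcomp⟩
  rcases c.eq_bot_or_eq_top hK with rfl | rfl
  · exact c.ne_top_of_isPGroup P.2 (Subgroup.isComplement'_bot_left.1 hcomp)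
  · have h1 := hcomp.card_mul_card
    rw [card_top] at h1
    have h2 : Nat.card (P : Subgroup G) = 1 := (Nat.mul_eq_left (Nat.card_pos (α := G)).ne').1 h1
    exact P.ne_bot_of_dvd_card hd (card_eq_one.1 h2)

/-- No section of a minimal counterexample is symmetric of degree three. -/
theorem Ctx.sThree_free : ¬ Cfsg.Involves (Equiv.Perm (Fin 3)) G := by
  intro h
  obtain ⟨K, f, hf⟩ := CfsgLib.ZJ.exists_surjective_of_involves h
  have h6 : Nat.card (Equiv.Perm (Fin 3)) = 6 := by
    rw [Nat.card_perm, Nat.card_fin]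
    rfl
  have hK : K ≠ ⊤ := by
    rintro rfl
    set φ : G →* Equiv.Perm (Fin 3) := f.comp (topEquiv (G := G)).symm.toMonoidHom
    have hφ : Function.Surjective φ := hf.comp (MulEquiv.surjective _)
    set ψ : G →* ℤˣ := Equiv.Perm.sign.comp φ
    rcases c.eq_bot_or_eq_top (inferInstance : ψ.ker.Normal) with hk | hk
    · exact c.not_comm ⟨⟨fun a b => (MonoidHom.ker_eq_bot_iff ψ).1 hk (by
        rw [map_mul, map_mul, mul_comm])⟩⟩
    · obtain ⟨x, hx⟩ := hφ (Equiv.swap 0 1)
      have h1 : Equiv.Perm.sign (φ x) = 1 := MonoidHom.mem_ker.1 (hk ▸ mem_top x : x ∈ ψ.ker)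
      rw [hx, Equiv.Perm.sign_swap (by decide)] at h1
      exact absurd h1 (by decide)
  haveI := c.solvable hK
  haveI := (c.hyp.subgroup K).of_surjective f hf (by
    rw [h6]
    refine ((Nat.coprime_primes Nat.prime_two hp.out).2 ?_).mul_left
      ((Nat.coprime_primes Nat.prime_three hp.out).2 ?_) <;> (have := c.hp5; omega))
  have h2 : orderOf (Equiv.swap (0 : Fin 3) 1) = 2 :=
    orderOf_eq_prime (by decide) (by decide)
  haveI : Fact (Nat.Prime 3) := ⟨Nat.prime_three⟩
  have h3 : orderOf (Equiv.swap (0 : Fin 3) 1 * Equiv.swap (1 : Fin 3) 2) = 3 :=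
    orderOf_eq_prime (by decide) (by decide)
  have := (CfsgLib.FGSA.commute_of_coprime_orderOf (Equiv.swap (0 : Fin 3) 1)
    (Equiv.swap (0 : Fin 3) 1 * Equiv.swap (1 : Fin 3) 2) (by rw [h2, h3]; norm_num)).eq
  revert this
  decide

end Min

end CfsgLib.PPrimeNil
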