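import Cfsg.Agent.PPrimeNil.Embedded
import Cfsg.Agent.ZJ.ControlMain
import Cfsg.Agent.Fusion.InnerZJ
import Cfsg.Agent.Transfer.Alperin

/-!
The case in which the strongly closed subgroup does not centralize the odd core of the strongly embedded
subgroup: fusion of `p`-elements is controlled inside that subgroup, which has a quotient of order `p`.
-/

set_option autoImplicit false
set_option linter.style.haveILetI false
set_option linter.unusedSectionVars false

namespace CfsgLib.PPrimeNil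

open Subgroup CfsgLib.Functor
open scoped commutatorElement CfsgLib.Functor

universe u

variable {G : Type u} [Group G] [Finite G] {p : ℕ} [hp : Fact p.Prime]

variable (c : Ctx p G)
include c

theorem Ctx.qd_free : ¬ Cfsg.Involves ↥(Cfsg.qd p) G := by
  intro h
  obtain ⟨K, f, hf⟩ := CfsgLib.ZJ.exists_surjective_of_involves (CfsgLib.ZJ.involves_sl2_of_qd h)
  have hns : ¬ Group.IsSolvable (Matrix.SpecialLinearGroup (Fin 2) (ZMod p)) := fun hs =>
    CfsgLib.Linear.PSLTwo.not_solvable (F := ZMod p) (by rw [Nat.card_zmod]; have := c.hp5; omega)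
      (haveI := hs; Group.isSolvable_of_surjective (QuotientGroup.mk'_surjective _))
  rcases eq_or_ne K ⊤ with rfl | hK
  swap
  · haveI := c.solvable hK
    exact hns (Group.isSolvable_of_surjective hf)
  set φ : G →* Matrix.SpecialLinearGroup (Fin 2) (ZMod p) := f.comp (topEquiv (G := G)).symm.toMonoidHom
  have hφ : Function.Surjective φ := hf.comp (MulEquiv.surjective _)
  haveI := c.hmin.1
  rcases IsSimpleGroup.eq_bot_or_eq_top_of_normal φ.ker inferInstance with hk | hk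
  · obtain ⟨z, hz⟩ := hφ (-1)
    have hinj : Function.Injective φ := (MonoidHom.ker_eq_bot_iff φ).1 hk
    haveI : Fact (2 < p) := ⟨by have := c.hp5; omega⟩
    have hz1 : z ≠ 1 := fun e => by
      rw [e, map_one] at hz
      have := congrFun (congrFun (congrArg Subtype.val hz.symm) 0) 0
      simp [ZMod.neg_one_ne_one] at this
    refine c.centralizer_ne_top hz1 (eq_top_iff.2 fun g _ => mem_centralizer_singleton_iff.2 (hinj ?_))
    rw [map_mul, map_mul, hz]
    exact Subtype.ext (by simp)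
  · apply hns
    haveI : Subsingleton (Matrix.SpecialLinearGroup (Fin 2) (ZMod p)) := ⟨fun a b => by
      obtain ⟨x, rfl⟩ := hφ a
      obtain ⟨y, rfl⟩ := hφ b
      rw [MonoidHom.mem_ker.1 (hk ▸ mem_top x : x ∈ φ.ker), MonoidHom.mem_ker.1 (hk ▸ mem_top y : y ∈ φ.ker)]⟩
    infer_instance

/-- No subgroup controlling `p`-fusion has a commutator-closed proper part of a Sylow `p`-subgroup. -/
theorem Ctx.false_of_control (P : Sylow p G) {M : Subgroup G} (hPM : (P : Subgroup G) ≤ M)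
    (hNZ : normalizer (Cfsg.centerThompsonAOf (P : Subgroup G) : Set G) ≤ M) (M1 : Subgroup G)
    (hderM : ∀ a ∈ M, ∀ b ∈ M, ⁅a, b⁆ ∈ M1) (hPM1 : ¬ (P : Subgroup G) ≤ M1) : False := by
  haveI : Fact (Nat.Prime 2) := ⟨Nat.prime_two⟩
  obtain ⟨i, hi⟩ := exists_prime_orderOf_dvd_card' 2 c.two_dvd
  have hres : Cfsg.pResidual p G = ⊤ := by
    haveI := c.hmin.1
    refine (IsSimpleGroup.eq_bot_or_eq_top_of_normal _ CfsgLib.PPrimeAb.pResidual_normal).resolve_left
      fun h => CfsgLib.Invol.ne_one hi ?_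
    rw [← mem_bot, ← h]
    refine subset_closure (show Nat.Coprime (orderOf i) p from ?_)
    rw [hi]
    exact (Nat.coprime_primes Nat.prime_two hp.out).2 c.p_ne_two.symm
  have hfoc : (P : Subgroup G) ≤ (P : Subgroup G).focalSubgroup := by
    have := CfsgLib.Fusion.inf_pResidual_le_focal P
    rwa [hres, inf_top_eq] at this
  have KA := CfsgLib.ZJ.zkind_centerThompsonA.{u} (p := p) c.p_ne_two
  refine hPM1 (hfoc.trans ?_)
  rw [focalSubgroup_def, closure_le]
  rintro _ ⟨hg, a, ha, u, rfl⟩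
  have hconj : u * a⁻¹ * u⁻¹ ∈ (P : Subgroup G) := by
    have := mul_mem (inv_mem ha) hg
    simpa [commutatorElement_def, mul_assoc] using this
  have hsub : u ⋆ zpowers a⁻¹ ≤ (P : Subgroup G) := by
    rintro _ ⟨y, ⟨i, rfl⟩, rfl⟩
    show MulAut.conj u (a⁻¹ ^ i) ∈ _
    rw [map_zpow]
    exact zpow_mem (by simpa using hconj) i
  obtain ⟨n, hn, hne⟩ := CfsgLib.ZJ.control_of_free c.p_ne_two KA G c.qd_free P _
    (CfsgLib.ZJ.stronglyClosed_self P) (zpowers a⁻¹) u (zpowers_le.2 (inv_mem ha)) hsub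
  have h1 := hne a⁻¹ (mem_zpowers _)
  have h2 : ⁅a, u⁆ = ⁅a, n⁆ := by
    rw [commutatorElement_def, commutatorElement_def, mul_assoc a u, mul_assoc a, ← h1]
    group
  rw [h2]
  exact hderM a (hPM ha) n (hNZ hn)

variable {S : Sylow 2 G} {A M : Subgroup G} (e : Emb p S A M)
include e

/-- `M` is the product of the normalizer of `A` and the odd core. -/
theorem Ctx.decomp {m : G} (hm : m ∈ M) :
    ∃ n ∈ normalizer (A : Set G), ∃ w ∈ CfsgLib.PPrimeAb.core 2 M, n * w = m :=
  (CfsgLib.Solvable.mem_sup_of_le_normalizer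
    (e.hNA.trans (CfsgLib.PPrimeAb.le_normalizer_core M))).1 (by rw [sup_comm]; exact e.decomp hm)

/-- The core-part of a product moving `v` inside `A` fixes `v`. -/
theorem Ctx.fix_of_mem {w v : G} (hw : w ∈ CfsgLib.PPrimeAb.core 2 M) (hv : v ∈ A)
    (h : w * v * w⁻¹ ∈ A) : w * v * w⁻¹ = v := by
  haveI : Fact (Nat.Prime 2) := ⟨Nat.prime_two⟩
  have hvn := (mem_normalizer_iff.1 (CfsgLib.PPrimeAb.le_normalizer_core (p := 2) M (e.A_le hv)) w⁻¹).1
    (inv_mem hw)
  have h1 : w * v * w⁻¹ * v⁻¹ ∈ CfsgLib.PPrimeAb.core 2 M := by simpa [mul_assoc] using mul_mem hw hvn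
  have h2 : w * v * w⁻¹ * v⁻¹ ∈ A := mul_mem h (inv_mem hv)
  have h3 : orderOf (w * v * w⁻¹ * v⁻¹) = 1 := by
    refine Nat.eq_one_of_dvd_coprimes (CfsgLib.PPrimeAb.coprime_core (p := 2) M)
      (Subgroup.orderOf_dvd_natCard _ h1) ?_
    exact orderOf_dvd_of_pow_eq_one (e.hA.2 _ h2)
  exact mul_inv_eq_one.1 (orderOf_eq_one_iff.1 h3)

theorem Ctx.index_centralizer :
    ((centralizer (A : Set G)).subgroupOf (normalizer (A : Set G))).index = p := by
  obtain ⟨v₀, hv₀, hv₀1⟩ := e.toClosed.exists_mem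
  have hSt : (centralizer ({v₀} : Set G)).subgroupOf (normalizer (A : Set G)) =
      (centralizer (A : Set G)).subgroupOf (normalizer (A : Set G)) := by
    ext n
    rw [mem_subgroupOf, mem_subgroupOf, mem_centralizer_singleton_iff]
    exact ⟨fun h => e.stab v₀ hv₀ hv₀1 n n.2 (by rw [h, mul_inv_cancel_right]),
      fun h => (mem_centralizer_iff.1 h v₀ hv₀).symm⟩
  rw [← hSt, CfsgLib.PPrimeAb.index_of_transitive (S := (A : Set G) \ {1})
    (fun n hn => ⟨(mem_normalizer_iff.1 hn _).1 hv₀, fun h => hv₀1 (conj_eq_one_iff.1 h)⟩)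
    fun w hw => e.trans v₀ hv₀ hv₀1 w hw.1 hw.2]
  have h1 := card_sharp A
  rw [e.card_eq] at h1
  omega

theorem Ctx.pow_mem_centralizer {g : G} (hg : g ∈ normalizer (A : Set G)) :
    g ^ p ∈ centralizer (A : Set G) := by
  haveI : ((centralizer (A : Set G)).subgroupOf (normalizer (A : Set G))).Normal :=
    ⟨fun b hb n => mem_subgroupOf.2 (centralizer_normal_in_normalizer n.2 (mem_subgroupOf.1 hb))⟩
  have h := pow_index_mem ((centralizer (A : Set G)).subgroupOf (normalizer (A : Set G)))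
    (⟨g, hg⟩ : normalizer (A : Set G))
  rw [c.index_centralizer e] at h
  exact h

theorem Ctx.commutator_mem_centralizer {a b : G} (ha : a ∈ normalizer (A : Set G))
    (hb : b ∈ normalizer (A : Set G)) : ⁅a, b⁆ ∈ centralizer (A : Set G) := by
  set C := (centralizer (A : Set G)).subgroupOf (normalizer (A : Set G))
  haveI : C.Normal :=
    ⟨fun b hb n => mem_subgroupOf.2 (centralizer_normal_in_normalizer n.2 (mem_subgroupOf.1 hb))⟩
  haveI : IsCyclic (normalizer (A : Set G) ⧸ C) :=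
    isCyclic_of_prime_card (p := p) (by rw [← index_eq_card, c.index_centralizer e])
  letI : CommGroup (normalizer (A : Set G) ⧸ C) := IsCyclic.commGroup
  have h : ⁅(⟨a, ha⟩ : normalizer (A : Set G)), ⟨b, hb⟩⁆ ∈ C := by
    rw [← QuotientGroup.eq_one_iff, ← QuotientGroup.mk'_apply, map_commutatorElement,
      commutatorElement_eq_one_iff_mul_comm]
    exact mul_comm _ _
  exact h

/-- An element of `p`-power order in `N(A)` outside `C(A)`. -/
theorem Ctx.exists_pElement :
    ∃ x ∈ normalizer (A : Set G), x ∉ centralizer (A : Set G) ∧ ∃ k : ℕ, orderOf x = p ^ k := by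
  obtain ⟨g, hg, hgc⟩ : ∃ g ∈ normalizer (A : Set G), g ∉ centralizer (A : Set G) := by
    by_contra h
    push Not at h
    have := c.index_centralizer e
    rw [show (centralizer (A : Set G)).subgroupOf (normalizer (A : Set G)) = ⊤ from
      eq_top_iff.2 fun n _ => mem_subgroupOf.2 (h n n.2), index_top] at this
    exact hp.out.ne_one this.symm
  obtain ⟨k, l, hl, hn⟩ := Nat.exists_eq_pow_mul_and_not_dvd (orderOf_pos g).ne' p hp.out.ne_one
  have hl0 : 0 < l := Nat.pos_of_ne_zero fun h => hl (h ▸ dvd_zero p)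
  refine ⟨g ^ l, pow_mem hg _, fun h => hgc ?_, k, ?_⟩
  · exact CfsgLib.PPrimeAb.mem_of_pow_mem (hp.out.coprime_iff_not_dvd.2 hl) (c.pow_mem_centralizer e hg) h
  · rw [orderOf_pow, hn, Nat.gcd_eq_right (dvd_mul_left _ _), Nat.mul_div_cancel _ hl0]

theorem Ctx.false_of_not_centralize
    (hB : ¬ CfsgLib.PPrimeAb.core 2 M ≤ centralizer (A : Set G)) : False := by
  classical
  haveI : Fact (Nat.Prime 2) := ⟨Nat.prime_two⟩
  have hp5 := c.hp5
  have hp2 : p ≠ 2 := c.p_ne_two
  haveI : Group.IsSolvable M := c.solvable e.hM.1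
  obtain ⟨v₀, hv₀, hv₀1⟩ := e.toClosed.exists_mem
  -- `O_{p'}(M)` is odd
  have hNodd : ¬ 2 ∣ Nat.card (CfsgLib.PPrimeAb.core p M) := by
    intro h2
    obtain ⟨i, hi⟩ := exists_prime_orderOf_dvd_card' 2 h2
    rw [← orderOf_coe] at hi
    obtain ⟨T, hT⟩ := (IsPGroup.of_card (n := 1)
      (by rw [Nat.card_zpowers, orderOf_mk, hi, pow_one]) :
      IsPGroup 2 (zpowers (⟨i, CfsgLib.PPrimeAb.core_le M i.2⟩ : M))).exists_le_sylow
    obtain ⟨m, hm⟩ := MulAction.exists_smul_eq M T (S.subtype e.sylow_le)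
    have hmiS : (m : G) * i * (m : G)⁻¹ ∈ (S : Subgroup G) := by
      have h : MulAut.conj m ⟨i, CfsgLib.PPrimeAb.core_le M i.2⟩ ∈
          ((S.subtype e.sylow_le : Sylow 2 M) : Subgroup M) := by
        rw [← hm, Sylow.coe_subgroup_smul]
        exact smul_mem_pointwise_smul _ _ _ (hT (mem_zpowers _))
      exact h
    have hmi := e.hmax _ hmiS (by rw [CfsgLib.Invol.orderOf_conj_eq, hi])
    have hmiN : (m : G) * i * (m : G)⁻¹ ∈ CfsgLib.PPrimeAb.core p M :=
      (mem_normalizer_iff.1 (CfsgLib.PPrimeAb.le_normalizer_core M m.2) _).1 i.2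
    have hm1 : (m : G) * i * (m : G)⁻¹ ≠ 1 := fun h => CfsgLib.Invol.ne_one hi (conj_eq_one_iff.1 h)
    have hAN : A ≤ CfsgLib.PPrimeAb.core p M := fun v hv => by
      rcases eq_or_ne v 1 with rfl | hv1
      · exact one_mem _
      obtain ⟨n, hn, rfl⟩ := e.trans _ hmi hm1 v hv hv1
      exact (mem_normalizer_iff.1 (CfsgLib.PPrimeAb.le_normalizer_core M (e.hNA hn)) _).1 hmiN
    have hAW : A ≤ normalizer (CfsgLib.PPrimeAb.core 2 M : Set G) :=
      e.A_le.trans (CfsgLib.PPrimeAb.le_normalizer_core M)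
    have h1 : ⁅CfsgLib.PPrimeAb.core 2 M, A⁆ ≤ CfsgLib.PPrimeAb.core p M ⊓ CfsgLib.PPrimeAb.core 2 M :=
      le_inf ((commutator_mono le_rfl hAN).trans (le_normalizer_iff_commutator_le_right.1
          ((CfsgLib.PPrimeAb.core_le M).trans (CfsgLib.PPrimeAb.le_normalizer_core M))))
        (le_normalizer_iff_commutator_le_left.1 hAW)
    have hcop : (Nat.card A).Coprime (Nat.card (CfsgLib.PPrimeAb.core 2 M)) :=
      CfsgLib.Signalizer.coprime_card e.hA fun h => (Fact.out : Nat.Prime 2).ne_one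
        (Nat.eq_one_of_dvd_coprimes (CfsgLib.PPrimeAb.coprime_core M) h dvd_rfl)
    have h2 : ⁅CfsgLib.PPrimeAb.core 2 M, A⁆ = ⊥ := by
      rw [← CfsgLib.CoprimeAct.commutator_commutator hAW hcop (Or.inl (CfsgLib.Signalizer.isSolvable e.hA))]
      refine le_bot_iff.1 ((commutator_mono h1 le_rfl).trans (le_of_eq ?_))
      rw [commutator_eq_bot_iff_le_centralizer]
      exact fun x hx => mem_centralizer_iff.2 fun y hy =>
        c.hyp.commute (CfsgLib.PPrimeAb.coprime_core M) (hAN hy) hx.1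
          (hcop.coprime_dvd_left (Subgroup.orderOf_dvd_natCard A hy) |>.coprime_dvd_right
            (Subgroup.orderOf_dvd_natCard _ hx.2))
    exact hB (commutator_eq_bot_iff_le_centralizer.1 h2)
  set NQ := normalizer (A : Set G)
  set CQ := centralizer (A : Set G)
  set R := CfsgLib.PPrimeAb.core 2 M
  have hWN : NQ ≤ normalizer (R : Set G) := e.hNA.trans (CfsgLib.PPrimeAb.le_normalizer_core M)
  have hCQN : CQ ≤ NQ := centralizer_le_normalizer _
  set M1 := CQ ⊔ R
  have hmemM1 : ∀ {g : G}, g ∈ M1 ↔ ∃ n ∈ CQ, ∃ w ∈ R, n * w = g :=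
    CfsgLib.Solvable.mem_sup_of_le_normalizer (hCQN.trans hWN)
  -- the derived group of `M` lies in `M1`
  haveI hM1n : (M1.subgroupOf M).Normal := by
    have hle : M1 ≤ M := sup_le (hCQN.trans e.hNA) (CfsgLib.PPrimeAb.core_le M)
    refine (normal_subgroupOf_iff_le_normalizer hle).2 fun m hm => ?_
    obtain ⟨n, hn, w, hw, rfl⟩ := c.decomp e hm
    refine mul_mem ?_ (le_normalizer (mem_sup_right hw))
    refine mem_normalizer_iff_map_conj_eq.2 (CfsgLib.Solvable.eq_of_le_of_card_le ?_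
      (card_map_of_injective (MulAut.conj n).injective).ge)
    rintro _ ⟨x, hx, rfl⟩
    obtain ⟨a, ha, b, hb, rfl⟩ := hmemM1.1 hx
    exact hmemM1.2 ⟨_, centralizer_normal_in_normalizer hn ha, _, (mem_normalizer_iff.1 (hWN hn) b).1 hb,
      by simp [mul_assoc]⟩
  have hderM : ∀ a ∈ M, ∀ b ∈ M, ⁅a, b⁆ ∈ M1 := by
    intro a ha b hb
    have key : ∀ m : M, ∃ n : G, n ∈ NQ ∧ ∃ hn : n ∈ M,
        QuotientGroup.mk' (M1.subgroupOf M) m = QuotientGroup.mk' (M1.subgroupOf M) ⟨n, hn⟩ := by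
      intro m
      obtain ⟨n, hn, w, hw, hnw⟩ := c.decomp e m.2
      refine ⟨n, hn, e.hNA hn, ?_⟩
      rw [show m = ⟨n, e.hNA hn⟩ * ⟨w, CfsgLib.PPrimeAb.core_le M hw⟩ from Subtype.ext hnw.symm, map_mul]
      rw [show QuotientGroup.mk' (M1.subgroupOf M) ⟨w, CfsgLib.PPrimeAb.core_le M hw⟩ = 1 from
        (QuotientGroup.eq_one_iff _).2 (mem_subgroupOf.2 (mem_sup_right hw)), mul_one]
    obtain ⟨na, hna, hnaM, hea⟩ := key ⟨a, ha⟩
    obtain ⟨nb, hnb, hnbM, heb⟩ := key ⟨b, hb⟩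
    have h : ⁅(⟨a, ha⟩ : M), ⟨b, hb⟩⁆ ∈ M1.subgroupOf M := by
      rw [← QuotientGroup.eq_one_iff, ← QuotientGroup.mk'_apply, map_commutatorElement, hea, heb,
        ← map_commutatorElement]
      exact (QuotientGroup.eq_one_iff _).2
        (mem_subgroupOf.2 (mem_sup_left (c.commutator_mem_centralizer e hna hnb)))
    exact h
  -- a `p`-element of `N(A)` outside `M1`
  obtain ⟨x, hx, hxc, k, hk⟩ := c.exists_pElement e
  have hxM := e.hNA hx
  have hx1 : x ≠ 1 := fun h => hxc (h ▸ one_mem _)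
  have hxM1 : x ∉ M1 := fun h => by
    obtain ⟨n, hn, w, hw, hnw⟩ := hmemM1.1 h
    have hxv : x * v₀ * x⁻¹ ∈ A := (mem_normalizer_iff.1 hx _).1 hv₀
    have hwv : w * v₀ * w⁻¹ ∈ A := by
      refine (mem_normalizer_iff.1 (hCQN hn) _).2 ?_
      rwa [show n * (w * v₀ * w⁻¹) * n⁻¹ = x * v₀ * x⁻¹ by rw [← hnw]; group]
    have hfix := c.fix_of_mem e hw hv₀ hwv
    refine hxc (e.stab v₀ hv₀ hv₀1 x hx ?_)
    calc x * v₀ * x⁻¹ = n * (w * v₀ * w⁻¹) * n⁻¹ := by rw [← hnw]; group
      _ = v₀ := by rw [hfix, ← mem_centralizer_iff.1 hn v₀ hv₀, mul_inv_cancel_right]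
  -- a Sylow `p`-subgroup of `M` containing it
  have hzx : IsPGroup p (zpowers (⟨x, hxM⟩ : M)) := IsPGroup.of_card (n := k) (by
    rw [Nat.card_zpowers, orderOf_mk, hk])
  obtain ⟨Sp, hSp⟩ := hzx.exists_le_sylow
  set P := (Sp : Subgroup M).map M.subtype
  have hxP : x ∈ P := ⟨⟨x, hxM⟩, hSp (mem_zpowers _), rfl⟩
  have hPp : IsPGroup p P := Sp.2.map _
  have hP1 : P ≠ ⊥ := fun h => hx1 (by rwa [h, mem_bot] at hxP)
  set Z := Cfsg.centerThompsonAOf P
  have hZeq : Z = (Cfsg.centerThompsonAOf (Sp : Subgroup M)).map M.subtype :=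
    CfsgLib.ZJ.centerThompsonAOf_map M.subtype _ fun y _ h => M.subtype_injective (h.trans (map_one _).symm)
  have hZP : Z ≤ P := inf_le_left.trans (map_subtype_le _)
  set H := normalizer (Cfsg.centerThompsonAOf (Sp : Subgroup M) : Set M)
  have hfac : Cfsg.pPrimeCore p M ⊔ H = ⊤ := CfsgLib.PPrimeAb.sup_normalizer_eq_top hp5 Sp
  have hHidx : ¬ 2 ∣ H.index := by
    intro h
    apply hNodd
    haveI : (Cfsg.pPrimeCore p M).Normal := (CfsgLib.Solvable.pPrimeCore_spec p).1
    have h1 := CfsgLib.Solvable.card_sup_mul_card_inf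
      (le_normalizer_of_normal : H ≤ normalizer (Cfsg.pPrimeCore p M : Set M))
    rw [sup_comm, hfac, card_top, ← H.card_mul_index, mul_assoc] at h1
    rw [CfsgLib.PPrimeAb.core, card_map_of_injective M.subtype_injective, ← Nat.eq_of_mul_eq_mul_left Nat.card_pos h1]
    exact dvd_mul_of_dvd_left h _
  obtain ⟨T⟩ : Nonempty (Sylow 2 H) := inferInstance
  obtain ⟨S2, hS2⟩ := (T.2.map H.subtype).exists_le_sylow
  have hS2H : (S2 : Subgroup M) ≤ H := by
    suffices (T : Subgroup H).map H.subtype = S2 from this ▸ map_subtype_le _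
    refine eq_of_le_of_card_ge hS2 ?_
    rw [card_map_of_injective H.subtype_injective, S2.card_eq_multiplicity, T.card_eq_multiplicity,
      ← H.card_mul_index, Nat.factorization_mul Nat.card_pos.ne' index_ne_zero_of_finite, Finsupp.add_apply,
      Nat.factorization_eq_zero_of_not_dvd hHidx, add_zero]
  obtain ⟨m, hm⟩ := MulAction.exists_smul_eq M (S.subtype e.sylow_le) S2
  have hAN : ∀ v ∈ A, (m : G) * v * (m : G)⁻¹ ∈ normalizer (Z : Set G) := by
    intro v hv
    have h : MulAut.conj m (⟨v, e.A_le hv⟩ : M) ∈ (S2 : Subgroup M) := by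
      rw [← hm, Sylow.coe_subgroup_smul]
      exact smul_mem_pointwise_smul _ _ _ (e.hsc.1 hv)
    rw [hZeq]
    exact le_normalizer_map _ ⟨_, hS2H h, rfl⟩
  have hZ1 : Z ≠ ⊥ := CfsgLib.Fusion.centerThompsonAOf_ne_bot hPp hP1
  have hNZtop := c.normalizer_ne_top_of_isPGroup (hPp.to_le hZP) hZ1
  have hNZ : normalizer (Z : Set G) ≤ M := by
    set X := (normalizer (Z : Set G)).map (MulAut.conj (m : G)⁻¹).toMonoidHom
    have hX : X ≠ ⊤ := fun h => hNZtop (by
      rw [← card_eq_iff_eq_top] at h ⊢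
      rwa [card_map_of_injective (MulAut.conj (m : G)⁻¹).injective] at h)
    have hAX : A ≤ X := fun v hv => CfsgLib.PPrimeAb.mem_map_conj.2 (by simpa using hAN v hv)
    have hle := c.le_of_four e.toLoc hX hAX le_rfl
      (le_trans (Nat.pow_le_pow_right (by norm_num) (by norm_num)) e.h8)
    intro x hx
    have := hle (mem_map_of_mem (MulAut.conj (m : G)⁻¹).toMonoidHom hx)
    simpa [mul_assoc] using mul_mem (mul_mem m.2 this) (inv_mem m.2)
  -- `P` is a Sylow subgroup of `G`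
  have KA := CfsgLib.ZJ.zkind_centerThompsonA.{u} (p := p) hp2
  obtain ⟨PG, hPG⟩ := hPp.exists_le_sylow
  have hPeq : P = PG := by
    by_contra hne
    have hlt := CfsgLib.Fusion.lt_inf_normalizer PG.2 (lt_of_le_of_ne hPG hne)
    refine hlt.ne ?_
    have hle : (PG : Subgroup G) ⊓ normalizer (P : Set G) ≤ M :=
      inf_le_right.trans ((KA.normalizer_le P).trans hNZ)
    rw [← map_subgroupOf_eq_of_le hle]
    exact congrArg (Subgroup.map M.subtype) (Sp.is_maximal' ((PG.2.to_le inf_le_left).comap_subtype (K := M))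
      fun y hy => hlt.le (mem_map_of_mem M.subtype hy)).symm
  have hPG' : ¬ (PG : Subgroup G) ≤ M1 := fun h => hxM1 (h (hPG hxP))
  exact c.false_of_control PG (hPeq ▸ map_subtype_le _) (hPeq ▸ hNZ) M1 hderM hPG'
end CfsgLib.PPrimeNil
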