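import Cfsg.Agent.PPrimeNil.CaseOne

/-!
The case in which the strongly closed subgroup centralizes the odd core of the strongly embedded
subgroup `M`: then `M = N(A)`, and we study the action on the cosets of `M`.
-/

set_option autoImplicit false
set_option linter.style.haveILetI false
set_option linter.unusedSectionVars false

namespace CfsgLib.PPrimeNil

open Subgroup
open scoped commutatorElement

universe u

variable {G : Type u} [Group G] [Finite G] {p : ℕ} [hp : Fact p.Prime]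

/-- The strongly embedded situation with `M = N(A)`. -/
structure Two (p : ℕ) (S : Sylow 2 G) (A M : Subgroup G) : Prop extends Emb p S A M where
  hle : M ≤ normalizer (A : Set G)

/-- `d` lies in the conjugate of `C(A)` belonging to the coset `x`. -/
def InC (A : Subgroup G) {M : Subgroup G} (d : G) (x : G ⧸ M) : Prop :=
  x.out⁻¹ * d * x.out ∈ centralizer (A : Set G)

variable {S : Sylow 2 G} {A M : Subgroup G}

/-- The intersection of two point stabilizers. -/
def pairStab {M : Subgroup G} (x y : G ⧸ M) : Subgroup G :=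
  MulAction.stabilizer G x ⊓ MulAction.stabilizer G y

theorem mem_pairStab {x y : G ⧸ M} {d : G} : d ∈ pairStab x y ↔ d • x = x ∧ d • y = y :=
  Iff.rfl

theorem Two.centralizer_le (e : Two p S A M) : centralizer (A : Set G) ≤ M :=
  (centralizer_le_normalizer _).trans e.hNA

theorem Two.conj_centralizer (e : Two p S A M) {m z : G} (hm : m ∈ M)
    (hz : z ∈ centralizer (A : Set G)) : m * z * m⁻¹ ∈ centralizer (A : Set G) :=
  centralizer_normal_in_normalizer (e.hle hm) hz

theorem InC.one (x : G ⧸ M) : InC A 1 x := by simp [InC]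

theorem InC.mul {d d' : G} {x : G ⧸ M} (h : InC A d x) (h' : InC A d' x) : InC A (d * d') x := by
  have := mul_mem h h'
  simpa [InC, mul_assoc] using this

theorem InC.inv {d : G} {x : G ⧸ M} (h : InC A d x) : InC A d⁻¹ x := by
  have := inv_mem h
  simpa [InC, mul_assoc] using this

theorem InC.pow {d : G} {x : G ⧸ M} (h : InC A d x) : ∀ n : ℕ, InC A (d ^ n) x
  | 0 => by simpa using InC.one x
  | n + 1 => pow_succ d n ▸ (InC.pow h n).mul h

theorem Two.inC_mk (e : Two p S A M) {d g : G} :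
    InC A d (QuotientGroup.mk g : G ⧸ M) ↔ g⁻¹ * d * g ∈ centralizer (A : Set G) := by
  obtain ⟨⟨m, hm⟩, he⟩ := QuotientGroup.mk_out_eq_mul M g
  rw [InC, he]
  refine ⟨fun h => ?_, fun h => ?_⟩
  · have := e.conj_centralizer hm h
    simpa [mul_assoc] using this
  · have := e.conj_centralizer (inv_mem hm) h
    simpa [mul_assoc] using this

theorem Two.inC_one_iff (e : Two p S A M) {d : G} :
    InC A d (QuotientGroup.mk 1 : G ⧸ M) ↔ d ∈ centralizer (A : Set G) := by
  rw [e.inC_mk]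
  simp

theorem InC.smul_eq (e : Two p S A M) {d : G} {x : G ⧸ M} (h : InC A d x) : d • x = x := by
  obtain ⟨g, rfl⟩ := QuotientGroup.mk_surjective x
  exact CfsgLib.StrongEmbed.smul_mk_iff.2 (e.centralizer_le (e.inC_mk.1 h))

theorem InC.conj (e : Two p S A M) {d : G} {x : G ⧸ M} (h : InC A d x) (k : G) :
    InC A (k * d * k⁻¹) (k • x) := by
  obtain ⟨g, rfl⟩ := QuotientGroup.mk_surjective x
  rw [MulAction.Quotient.smul_mk, smul_eq_mul, e.inC_mk]
  simpa [mul_assoc] using e.inC_mk.1 h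

/-- Two elements fixing a coset commute modulo the attached conjugate of `C(A)`. -/
theorem Two.inC_commutator (e : Two p S A M) (c : Ctx p G) {d d' : G} {x : G ⧸ M} (h : d • x = x)
    (h' : d' • x = x) : InC A ⁅d, d'⁆ x := by
  obtain ⟨g, rfl⟩ := QuotientGroup.mk_surjective x
  rw [CfsgLib.StrongEmbed.smul_mk_iff] at h h'
  rw [e.inC_mk]
  have := c.commutator_mem_centralizer e.toEmb (e.hle h) (e.hle h')
  simpa [commutatorElement_def, mul_assoc] using this

theorem Two.inC_pow (e : Two p S A M) (c : Ctx p G) {d : G} {x : G ⧸ M} (h : d • x = x) :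
    InC A (d ^ p) x := by
  obtain ⟨g, rfl⟩ := QuotientGroup.mk_surjective x
  rw [CfsgLib.StrongEmbed.smul_mk_iff] at h
  rw [e.inC_mk]
  have := c.pow_mem_centralizer e.toEmb (e.hle h)
  rwa [show (g⁻¹ * d * g) ^ p = g⁻¹ * d ^ p * g by
    simpa using (conj_pow (i := p) (a := g⁻¹) (b := d))] at this

/-- An involution of `M` lies in `A`. -/
theorem Two.invol_mem (e : Two p S A M) {i : G} (hi : i ∈ M) (hio : orderOf i = 2) : i ∈ A := by
  haveI : Fact (Nat.Prime 2) := ⟨Nat.prime_two⟩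
  obtain ⟨T, hT⟩ := (IsPGroup.of_card (n := 1) (by rw [Nat.card_zpowers, orderOf_mk, hio, pow_one]) :
    IsPGroup 2 (zpowers (⟨i, hi⟩ : M))).exists_le_sylow
  obtain ⟨m, hm⟩ := MulAction.exists_smul_eq M T (S.subtype e.sylow_le)
  have hs : (m : G) * i * (m : G)⁻¹ ∈ (S : Subgroup G) := by
    have h : MulAut.conj m ⟨i, hi⟩ ∈ ((S.subtype e.sylow_le : Sylow 2 M) : Subgroup M) := by
      rw [← hm, Sylow.coe_subgroup_smul]
      exact smul_mem_pointwise_smul _ _ _ (hT (mem_zpowers _))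
    exact h
  exact (mem_normalizer_iff.1 (e.hle m.2) i).2
    (e.hmax _ hs (by rw [CfsgLib.Invol.orderOf_conj_eq, hio]))

/-- An element commuting with an involution lies in the conjugate of `C(A)` at its fixed coset. -/
theorem Two.inC_of_commute (e : Two p S A M) {i d : G} {x : G ⧸ M} (hi : orderOf i = 2)
    (hx : i • x = x) (hc : d * i = i * d) : InC A d x := by
  obtain ⟨g, rfl⟩ := QuotientGroup.mk_surjective x
  rw [CfsgLib.StrongEmbed.smul_mk_iff] at hx
  have ho : orderOf (g⁻¹ * i * g) = 2 := by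
    rw [show g⁻¹ * i * g = g⁻¹ * i * g⁻¹⁻¹ by rw [inv_inv], CfsgLib.Invol.orderOf_conj_eq, hi]
  have ha := e.invol_mem hx ho
  have hcc : g⁻¹ * d * g * (g⁻¹ * i * g) = g⁻¹ * i * g * (g⁻¹ * d * g) := by
    calc g⁻¹ * d * g * (g⁻¹ * i * g) = g⁻¹ * (d * i) * g := by group
      _ = g⁻¹ * (i * d) * g := by rw [hc]
      _ = _ := by group
  have hM : g⁻¹ * d * g ∈ M := e.hC _ ha (CfsgLib.Invol.ne_one ho) (mem_centralizer_singleton_iff.2 hcc)
  exact e.inC_mk.2 (e.stab _ ha (CfsgLib.Invol.ne_one ho) _ (e.hle hM) (by rw [hcc, mul_inv_cancel_right]))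

/-- No involution fixing a coset inverts a nontrivial element of odd order fixing it. -/
theorem Two.eq_one_of_inverted (e : Two p S A M) {i d : G} {x : G ⧸ M} (hi : orderOf i = 2)
    (hix : i • x = x) (hdx : d • x = x) (hd : Odd (orderOf d)) (hinv : i * d * i⁻¹ = d⁻¹) : d = 1 := by
  obtain ⟨g, rfl⟩ := QuotientGroup.mk_surjective x
  rw [CfsgLib.StrongEmbed.smul_mk_iff] at hix hdx
  have ho : orderOf (g⁻¹ * i * g) = 2 := by
    rw [show g⁻¹ * i * g = g⁻¹ * i * g⁻¹⁻¹ by rw [inv_inv], CfsgLib.Invol.orderOf_conj_eq, hi]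
  have ha := e.invol_mem hix ho
  set a := g⁻¹ * i * g with hadef
  set m := g⁻¹ * d * g with hmdef
  have haa : a * a = 1 := CfsgLib.Invol.mul_self_eq_one ho
  have h1 : a * m * a⁻¹ = m⁻¹ := by
    calc a * m * a⁻¹ = g⁻¹ * (i * d * i⁻¹) * g := by simp [hadef, hmdef, mul_assoc]
      _ = m⁻¹ := by rw [hinv, hmdef]; group
  have h2 : m * a = a * m⁻¹ := by
    calc m * a = a * (a * m * a⁻¹) := by
          rw [CfsgLib.Invol.inv_eq_self ho]; simp only [← mul_assoc, haa, one_mul]
      _ = a * m⁻¹ := by rw [h1]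
  have h3 : (m ^ 2)⁻¹ ∈ A := by
    have h4 : m * a * m⁻¹ ∈ A := (mem_normalizer_iff.1 (e.hle hdx) a).1 ha
    have h5 := mul_mem (inv_mem ha) h4
    rwa [h2, show a⁻¹ * (a * m⁻¹ * m⁻¹) = (m ^ 2)⁻¹ by rw [pow_two]; group] at h5
  have h6 : (m ^ 2) ^ 2 = 1 := e.hA.2 _ (by simpa using inv_mem h3)
  have hmo : orderOf m = orderOf d := by
    rw [hmdef, show g⁻¹ * d * g = g⁻¹ * d * g⁻¹⁻¹ by rw [inv_inv], CfsgLib.Invol.orderOf_conj_eq]
  rw [← pow_mul] at h6
  have h7 : orderOf d ∣ 2 ^ 2 := hmo ▸ orderOf_dvd_of_pow_eq_one h6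
  refine orderOf_eq_one_iff.1 (Nat.eq_one_of_dvd_coprimes ?_ dvd_rfl h7)
  exact (Nat.coprime_two_right.2 hd).pow_right 2

variable (c : Ctx p G)
include c

theorem Ctx.two_of_centralize (e : Emb p S A M)
    (h : CfsgLib.PPrimeAb.core 2 M ≤ centralizer (A : Set G)) : Two p S A M :=
  ⟨e, e.decomp.trans (sup_le (h.trans (centralizer_le_normalizer _)) le_rfl)⟩

variable (e : Two p S A M)
include e

/-- The centralizer of a nontrivial element of `C(A)` lies in `M`. -/
theorem Ctx.centralizer_le_of_mem {y : G} (hy : y ∈ centralizer (A : Set G)) (hy1 : y ≠ 1) :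
    centralizer ({y} : Set G) ≤ M :=
  c.le_of_four e.toLoc (c.centralizer_ne_top hy1)
    (fun a ha => mem_centralizer_singleton_iff.2 (mem_centralizer_iff.1 hy a ha)) le_rfl
    (le_trans (Nat.pow_le_pow_right (by norm_num) (by norm_num)) e.h8)

/-- `C(A)` is a trivial-intersection subgroup. -/
theorem Ctx.ti {y g : G} (hy : y ∈ centralizer (A : Set G)) (hy1 : y ≠ 1)
    (hg : g * y * g⁻¹ ∈ centralizer (A : Set G)) : g ∈ M := by
  obtain ⟨a, ha, ha1⟩ := e.toClosed.exists_mem
  have h1 : g⁻¹ * a * g ∈ centralizer ({y} : Set G) := by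
    have hc := mem_centralizer_iff.1 hg a ha
    rw [mem_centralizer_singleton_iff]
    calc g⁻¹ * a * g * y = g⁻¹ * (a * (g * y * g⁻¹)) * g := by group
      _ = g⁻¹ * (g * y * g⁻¹ * a) * g := by rw [hc]
      _ = y * (g⁻¹ * a * g) := by group
  have h2 : g⁻¹ * a * g ∈ M := c.centralizer_le_of_mem e hy hy1 h1
  have h3 : orderOf (g⁻¹ * a * g) = 2 := by
    rw [show g⁻¹ * a * g = g⁻¹ * a * g⁻¹⁻¹ by rw [inv_inv], CfsgLib.Invol.orderOf_conj_eq,
      e.toClosed.orderOf_eq ha ha1]
  have h4 := e.mem_of_conj (g := g⁻¹) ha ha1 (by simpa using e.invol_mem h2 h3)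
  simpa using h4

theorem Ctx.inC_unique {d : G} {x y : G ⧸ M} (hd : d ≠ 1) (hx : InC A d x) (hy : InC A d y) : x = y := by
  obtain ⟨g, rfl⟩ := QuotientGroup.mk_surjective x
  obtain ⟨k, rfl⟩ := QuotientGroup.mk_surjective y
  rw [e.inC_mk] at hx hy
  refine (QuotientGroup.eq.2 ?_).symm
  refine c.ti e hx (fun h => hd ?_) ?_
  · calc d = g * (g⁻¹ * d * g) * g⁻¹ := by group
      _ = 1 := by rw [h]; group
  · rwa [show k⁻¹ * g * (g⁻¹ * d * g) * (k⁻¹ * g)⁻¹ = k⁻¹ * d * k by group]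

theorem Ctx.smul_eq_of_commute {d k : G} {x : G ⧸ M} (hd : d ≠ 1) (hx : InC A d x)
    (hk : k * d = d * k) : k • x = x := by
  refine (c.inC_unique e hd hx ?_).symm
  have h := hx.conj e k
  rwa [hk, mul_inv_cancel_right] at h

theorem Ctx.commute_of_pairStab {x y : G ⧸ M} (hxy : x ≠ y) {d d' : G} (hd : d ∈ pairStab x y)
    (hd' : d' ∈ pairStab x y) : d * d' = d' * d := by
  rw [← commutatorElement_eq_one_iff_mul_comm]
  by_contra h
  exact hxy (c.inC_unique e h (e.inC_commutator c (mem_pairStab.1 hd).1 (mem_pairStab.1 hd').1)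
    (e.inC_commutator c (mem_pairStab.1 hd).2 (mem_pairStab.1 hd').2))

theorem Ctx.pow_eq_one_of_pairStab {x y : G ⧸ M} (hxy : x ≠ y) {d : G} (hd : d ∈ pairStab x y) :
    d ^ p = 1 := by
  by_contra h
  exact hxy (c.inC_unique e h (e.inC_pow c (mem_pairStab.1 hd).1) (e.inC_pow c (mem_pairStab.1 hd).2))

theorem Ctx.card_invol : Nat.card {t : G // orderOf t = 2 ∧ t ∈ M} = p := by
  have h1 : Nat.card {t : G // orderOf t = 2 ∧ t ∈ M} = Nat.card ↥((A : Set G) \ {1}) :=
    Nat.card_congr (Equiv.subtypeEquivRight fun t => ⟨fun h => ⟨e.invol_mem h.2 h.1,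
      CfsgLib.Invol.ne_one h.1⟩, fun h => ⟨e.toClosed.orderOf_eq h.1 h.2, e.A_le h.1⟩⟩)
  have h2 := card_sharp A
  rw [e.card_eq] at h2
  omega

theorem Ctx.card_swap {x y : G ⧸ M} (hxy : x ≠ y) :
    Nat.card {i : G // orderOf i = 2 ∧ i • x = y} = p :=
  (CfsgLib.StrongEmbed.card_swap e.se hxy).trans (c.card_invol e)

theorem Ctx.swap_back {x y : G ⧸ M} {i : G} (hi : orderOf i = 2) (h : i • x = y) : i • y = x := by
  rw [← h, smul_smul, CfsgLib.Invol.mul_self_eq_one hi, one_smul]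

/-- An element inverted by a swap lies in no conjugate of `C(A)` at the swapped cosets. -/
theorem Ctx.eq_one_of_inverted_inC {x y : G ⧸ M} (hxy : x ≠ y) {i d : G} (hi : i • x = y)
    (hinv : i * d * i⁻¹ = d⁻¹) (hd : InC A d x) : d = 1 := by
  by_contra h
  have h1 := (hd.conj e i)
  rw [hinv, hi] at h1
  exact hxy (c.inC_unique e h hd (by simpa using h1.inv))

/-- A swap inverts some nontrivial element fixing both cosets. -/
theorem Ctx.exists_inverted {x y : G ⧸ M} (hxy : x ≠ y) {i : G} (hi : orderOf i = 2) (hixy : i • x = y) :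
    ∃ d : G, d ≠ 1 ∧ d ∈ pairStab x y ∧ i * d * i⁻¹ = d⁻¹ := by
  haveI : Nontrivial {j : G // orderOf j = 2 ∧ j • x = y} :=
    (Finite.one_lt_card_iff_nontrivial).1 (by rw [c.card_swap e hxy]; exact hp.out.one_lt)
  obtain ⟨⟨j, hj, hjxy⟩, hne⟩ := exists_ne (⟨i, hi, hixy⟩ : {j : G // orderOf j = 2 ∧ j • x = y})
  refine ⟨i * j, fun h => hne (Subtype.ext ?_), ⟨?_, ?_⟩, ?_⟩
  · show j = i
    rw [← CfsgLib.Invol.inv_eq_self hi]
    exact eq_inv_of_mul_eq_one_right h
  · show (i * j) • x = x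
    rw [mul_smul, hjxy, c.swap_back e hi hixy]
  · show (i * j) • y = y
    rw [mul_smul, c.swap_back e hj hjxy, hixy]
  · rw [mul_inv_rev, CfsgLib.Invol.inv_eq_self hi, CfsgLib.Invol.inv_eq_self hj]
    rw [← mul_assoc, CfsgLib.Invol.mul_self_eq_one hi, one_mul]

theorem Ctx.orderOf_pairStab {x y : G ⧸ M} (hxy : x ≠ y) {d : G} (hd : d ∈ pairStab x y) (hd1 : d ≠ 1) :
    orderOf d = p :=
  orderOf_eq_prime (c.pow_eq_one_of_pairStab e hxy hd) hd1

theorem Ctx.index_centralizer_M : ((centralizer (A : Set G)).subgroupOf M).index = p := by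
  have h : normalizer (A : Set G) = M := le_antisymm e.hNA e.hle
  have := c.index_centralizer e.toEmb
  rwa [h] at this

theorem Ctx.card_M : Nat.card M = Nat.card (centralizer (A : Set G)) * p := by
  rw [← ((centralizer (A : Set G)).subgroupOf M).card_mul_index, c.index_centralizer_M e,
    Nat.card_congr (subgroupOfEquivOfLe e.centralizer_le).toEquiv]

/-- The homomorphism from a group of elements fixing a coset to the quotient of order `p`. -/
theorem Ctx.card_le_mul (X : Subgroup G) (x : G ⧸ M) (hX : ∀ t ∈ X, t • x = x) :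
    Nat.card X ≤ p * Nat.card {t : G // t ∈ X ∧ InC A t x} := by
  obtain ⟨g, rfl⟩ := QuotientGroup.mk_surjective x
  haveI : ((centralizer (A : Set G)).subgroupOf M).Normal :=
    ⟨fun b hb n => mem_subgroupOf.2 (e.conj_centralizer n.2 (mem_subgroupOf.1 hb))⟩
  let f : X →* M := MonoidHom.mk'
    (fun t => ⟨g⁻¹ * t * g, CfsgLib.StrongEmbed.smul_mk_iff.1 (hX t t.2)⟩)
    fun a b => Subtype.ext (by simp [mul_assoc])
  let θ := (QuotientGroup.mk' ((centralizer (A : Set G)).subgroupOf M)).comp f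
  have hr : Nat.card θ.range ≤ p := by
    refine le_trans (Nat.card_le_card_of_injective _ θ.range.subtype_injective) ?_
    rw [← index_eq_card, c.index_centralizer_M e]
  have hk : Nat.card θ.ker ≤ Nat.card {t : G // t ∈ X ∧ InC A t (QuotientGroup.mk g : G ⧸ M)} := by
    refine Nat.card_le_card_of_injective (fun t => ⟨((t : X) : G), (t : X).2, e.inC_mk.2 ?_⟩)
      fun a b h => Subtype.ext (Subtype.ext (congrArg Subtype.val h :))
    exact mem_subgroupOf.1 ((QuotientGroup.eq_one_iff _).1 t.2)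
  calc Nat.card X = Nat.card θ.ker * θ.ker.index := (θ.ker.card_mul_index).symm
    _ = Nat.card θ.range * Nat.card θ.ker := by rw [index_ker, mul_comm]
    _ ≤ _ := Nat.mul_le_mul hr hk

theorem Ctx.card_pairStab_le {x y : G ⧸ M} (hxy : x ≠ y) : Nat.card (pairStab x y) ≤ p ^ 2 := by
  refine le_trans (c.card_le_mul e _ x fun t ht => (mem_pairStab.1 ht).1) ?_
  rw [pow_two]
  refine Nat.mul_le_mul le_rfl ?_
  -- the part at `x` embeds in the quotient at `y`
  let X : Subgroup G :=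
    { carrier := {t | t ∈ pairStab x y ∧ InC A t x}
      one_mem' := ⟨one_mem _, InC.one x⟩
      mul_mem' := fun ha hb => ⟨mul_mem ha.1 hb.1, ha.2.mul hb.2⟩
      inv_mem' := fun ha => ⟨inv_mem ha.1, ha.2.inv⟩ }
  refine le_trans (le_of_eq ?_) ((c.card_le_mul e X y fun t ht => (mem_pairStab.1 ht.1).2).trans
    (le_of_eq ?_))
  · rfl
  · have : Subsingleton {t : G // t ∈ X ∧ InC A t y} := ⟨fun a b => Subtype.ext (by
      have key : ∀ t : {t : G // t ∈ X ∧ InC A t y}, (t : G) = 1 := fun t => by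
        by_contra h
        exact hxy (c.inC_unique e h t.2.1.2 t.2.2)
      rw [key a, key b])⟩
    haveI : Nonempty {t : G // t ∈ X ∧ InC A t y} := ⟨⟨1, one_mem _, InC.one y⟩⟩
    rw [Nat.card_unique, mul_one]

end CfsgLib.PPrimeNil
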