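import Cfsg.Agent.PPrimeNil.CaseTwoP
import Cfsg.Agent.FGSA.GTCriterion
import Cfsg.Agent.ZJ.NormalPComplement

/-!
The counting contradiction: the number of cosets of `M` is congruent to two modulo `p`, and to one
prime by prime.
-/

set_option autoImplicit false
set_option linter.style.haveILetI false
set_option linter.unusedSectionVars false

namespace CfsgLib.PPrimeNil

open Subgroup
open scoped commutatorElement

universe u

theorem even_pow_fix {G X : Type*} [Group G] [MulAction G X] {g : G} {a : X} (h : g • g • a = a) :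
    ∀ k : ℕ, g ^ (2 * k) • a = a := by
  intro k
  induction k with
  | zero => simp
  | succ k ih => rw [show 2 * (k + 1) = 2 * k + 2 by ring, pow_add, mul_smul, pow_two, mul_smul, h, ih]

variable {G : Type u} [Group G] [Finite G] {p : ℕ} [hp : Fact p.Prime]
variable {S : Sylow 2 G} {A M : Subgroup G}
variable (c : Ctx p G) (e : Two p S A M)
include c e

theorem Ctx.inC_eq_one {d : G} {x : G ⧸ M} (h : InC A d x) (hd : d ^ p = 1) : d = 1 := by
  obtain ⟨g, rfl⟩ := QuotientGroup.mk_surjective x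
  have hC := e.inC_mk.1 h
  by_contra h1
  refine c.not_dvd_card_centralizer e ?_
  have ho : orderOf (g⁻¹ * d * g) = p := by
    rw [show g⁻¹ * d * g = g⁻¹ * d * g⁻¹⁻¹ by rw [inv_inv], CfsgLib.Invol.orderOf_conj_eq,
      orderOf_eq_prime hd h1]
  exact ho ▸ Subgroup.orderOf_dvd_natCard _ hC

theorem Ctx.card_pairStab {x y : G ⧸ M} (hxy : x ≠ y) : Nat.card (pairStab x y) = p := by
  haveI : Subsingleton {t : G // t ∈ pairStab x y ∧ InC A t x} := ⟨fun a b => Subtype.ext (by
    rw [c.inC_eq_one e a.2.2 (c.pow_eq_one_of_pairStab e hxy a.2.1),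
      c.inC_eq_one e b.2.2 (c.pow_eq_one_of_pairStab e hxy b.2.1)])⟩
  haveI : Nonempty {t : G // t ∈ pairStab x y ∧ InC A t x} := ⟨⟨1, one_mem _, InC.one _⟩⟩
  have hle := c.card_le_mul e (pairStab x y) x fun t ht => (mem_pairStab.1 ht).1
  rw [Nat.card_unique (α := {t : G // t ∈ pairStab x y ∧ InC A t x}), mul_one] at hle
  obtain ⟨i, hi, hixy⟩ := CfsgLib.StrongEmbed.exists_swap e.se hxy
  obtain ⟨d, hd1, hd, -⟩ := c.exists_inverted e hxy hi hixy
  have h := Nat.le_of_dvd Nat.card_pos (Subgroup.orderOf_dvd_natCard _ hd)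
  rw [c.orderOf_pairStab e hxy hd hd1] at h
  omega

theorem Ctx.pairStab_eq_zpowers {x y : G ⧸ M} (hxy : x ≠ y) {d : G} (hd : d ∈ pairStab x y) (hd1 : d ≠ 1) :
    pairStab x y = zpowers d := by
  refine (eq_of_le_of_card_ge (zpowers_le.2 hd) ?_).symm
  rw [c.card_pairStab e hxy, Nat.card_zpowers, c.orderOf_pairStab e hxy hd hd1]

theorem Ctx.swap_inverts {x y : G ⧸ M} (hxy : x ≠ y) {i t : G} (hi : orderOf i = 2) (hixy : i • x = y)
    (ht : t ∈ pairStab x y) : i * t * i⁻¹ = t⁻¹ := by
  obtain ⟨d, hd1, hd, hinv⟩ := c.exists_inverted e hxy hi hixy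
  rw [c.pairStab_eq_zpowers e hxy hd hd1] at ht
  obtain ⟨k, rfl⟩ := mem_zpowers_iff.1 ht
  rw [← conj_zpow, hinv, inv_zpow]

theorem Ctx.no_two : False := by
  classical
  haveI : Fact (Nat.Prime 2) := ⟨Nat.prime_two⟩
  set CA := centralizer (A : Set G)
  set o : G ⧸ M := QuotientGroup.mk 1
  have hcardM := c.card_M e
  have hpC := c.not_dvd_card_centralizer e
  have hC0 : Nat.card CA ≠ 0 := Nat.card_pos.ne'
  have hvM : (Nat.card M).factorization p = 1 := by
    rw [hcardM, Nat.factorization_mul hC0 hp.out.ne_zero, Finsupp.add_apply,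
      Nat.factorization_eq_zero_of_not_dvd hpC, hp.out.factorization_self]
  obtain ⟨g₀, -, hg₀⟩ := SetLike.exists_of_lt (lt_top_iff_ne_top.2 e.hM.1)
  set β : G ⧸ M := g₀ • o
  have hne : o ≠ β := fun h => hg₀ (CfsgLib.StrongEmbed.smul_mk_one_iff.1 h.symm)
  obtain ⟨x, hx, hx1⟩ := (bot_or_exists_ne_one (pairStab o β)).resolve_left fun h => by
    have := c.card_pairStab e hne
    rw [h, card_bot] at this
    exact hp.out.ne_one this.symm
  have hxo : orderOf x = p := c.orderOf_pairStab e hne hx hx1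
  have hxp : x ^ p = 1 := hxo ▸ pow_orderOf_eq_one x
  obtain ⟨hxfo, hxfβ⟩ := mem_pairStab.1 hx
  have hxM : x ∈ M := CfsgLib.StrongEmbed.smul_mk_one_iff.1 hxfo
  set X := zpowers x
  have hXcard : Nat.card X = p := by rw [Nat.card_zpowers, hxo]
  have hXfix : ∀ t ∈ X, t • o = o := fun t ht =>
    CfsgLib.StrongEmbed.smul_mk_one_iff.2 (zpowers_le.2 hxM ht)
  -- the involutions inverting `x`
  have hxz : ∀ z : G ⧸ M, x • z = z → z ≠ o → x ∈ pairStab o z := fun z hz _ => mem_pairStab.2 ⟨hxfo, hz⟩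
  have hinv_fix : ∀ i : G, i * x * i⁻¹ = x⁻¹ → x • i • o = i • o := by
    intro i h
    have h2 : x * i = i * x⁻¹ := by
      have h3 : (i * x * i⁻¹)⁻¹ = x := by rw [h, inv_inv]
      calc x * i = (i * x * i⁻¹)⁻¹ * i := by rw [h3]
        _ = i * x⁻¹ := by group
    have h4 : x⁻¹ • o = o := inv_smul_eq_iff.2 hxfo.symm
    rw [smul_smul, h2, mul_smul, h4]
  set Inv := {i : G | orderOf i = 2 ∧ i * x * i⁻¹ = x⁻¹}
  have hInv : Nat.card Inv = Nat.card {z : G ⧸ M // x • z = z ∧ z ≠ o} * p := by
    let E : Inv ≃ Σ z : {z : G ⧸ M // x • z = z ∧ z ≠ o}, {i : G // orderOf i = 2 ∧ i • o = (z.1 : G ⧸ M)} :=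
      { toFun := fun i => ⟨⟨i.1 • o, hinv_fix i.1 i.2.2, fun h => hx1
            (e.eq_one_of_inverted i.2.1 h hxfo (by rw [hxo]; exact c.p_odd) i.2.2)⟩, i.1, i.2.1, rfl⟩
        invFun := fun a => ⟨a.2.1, a.2.2.1,
          c.swap_inverts e (Ne.symm a.1.2.2) a.2.2.1 a.2.2.2 (hxz _ a.1.2.1 a.1.2.2)⟩
        left_inv := fun i => rfl
        right_inv := by
          rintro ⟨⟨z, hz⟩, i, hi, hia⟩
          change i • o = z at hia
          subst hia
          rfl }
    haveI := Fintype.ofFinite {z : G ⧸ M // x • z = z ∧ z ≠ o}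
    rw [Nat.card_congr E, Nat.card_sigma,
      Finset.sum_congr rfl fun a _ => c.card_swap e (Ne.symm a.2.2), Finset.sum_const,
      Finset.card_univ, Nat.card_eq_fintype_card, smul_eq_mul]
  set f1 := Nat.card {z : G ⧸ M // x • z = z ∧ z ≠ o}
  haveI : Nonempty {z : G ⧸ M // x • z = z ∧ z ≠ o} := ⟨⟨β, hxfβ, hne.symm⟩⟩
  have hf1 : f1 ≠ 0 := Nat.card_pos.ne'
  set CX := centralizer ({x} : Set G)
  have hCXodd : ¬ 2 ∣ Nat.card CX := by
    intro h
    obtain ⟨t, ht⟩ := exists_prime_orderOf_dvd_card' 2 h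
    rw [← orderOf_coe] at ht
    obtain ⟨z, hz⟩ := CfsgLib.StrongEmbed.exists_fix e.se ht
    exact hx1 (c.inC_eq_one e (e.inC_of_commute ht hz (mem_centralizer_singleton_iff.1 t.2).symm) hxp)
  obtain ⟨u0, hu0, hu0β⟩ := CfsgLib.StrongEmbed.exists_swap e.se hne
  have hu0inv := c.swap_inverts e hne hu0 hu0β hx
  set K := (centralizer ({u0} : Set G)).subgroupOf CX
  have hKidx : K.index = f1 * p := by
    rw [← hInv]
    refine CfsgLib.PPrimeAb.index_of_transitive (fun n hn => ⟨?_, ?_⟩) fun v hv => ?_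
    · rw [CfsgLib.Invol.orderOf_conj_eq, hu0]
    · have h1 : n⁻¹ * x * n = x := by
        rw [mul_assoc, ← mem_centralizer_singleton_iff.1 hn, inv_mul_cancel_left]
      have h2 : n * x⁻¹ * n⁻¹ = x⁻¹ := by
        rw [← conj_inv, mem_centralizer_singleton_iff.1 hn, mul_inv_cancel_right]
      calc n * u0 * n⁻¹ * x * (n * u0 * n⁻¹)⁻¹ = n * (u0 * (n⁻¹ * x * n) * u0⁻¹) * n⁻¹ := by group
        _ = x⁻¹ := by rw [h1, hu0inv, h2]
    · obtain ⟨hv2, hvinv⟩ := hv
      have hu := CfsgLib.Invol.mul_self_eq_one hu0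
      have hvv := CfsgLib.Invol.mul_self_eq_one hv2
      set r := u0 * v with hrdef
      have hrC : r ∈ CX := by
        rw [mem_centralizer_singleton_iff]
        have e1 : v * x = x⁻¹ * v := mul_inv_eq_iff_eq_mul.1 hvinv
        have e2 : u0 * x⁻¹ = x * u0 := by
          refine mul_inv_eq_iff_eq_mul.1 ?_
          rw [← conj_inv, hu0inv, inv_inv]
        calc u0 * v * x = u0 * (v * x) := mul_assoc _ _ _
          _ = (u0 * x⁻¹) * v := by rw [e1, mul_assoc]
          _ = x * (u0 * v) := by rw [e2, mul_assoc]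
      obtain ⟨j, hj⟩ : Odd (orderOf r) := by
        refine Nat.not_even_iff_odd.1 fun he => hCXodd ?_
        exact he.two_dvd.trans (Subgroup.orderOf_dvd_natCard CX hrC)
      have hur : u0 * r * u0⁻¹ = r⁻¹ := by
        rw [hrdef, CfsgLib.Invol.inv_eq_self hu0, mul_inv_rev, CfsgLib.Invol.inv_eq_self hu0,
          CfsgLib.Invol.inv_eq_self hv2, ← mul_assoc u0 u0, hu, one_mul]
      refine ⟨r ^ j, pow_mem hrC j, ?_⟩
      have h1 : u0 * (r ^ j)⁻¹ * u0⁻¹ = r ^ j := by rw [← conj_inv, ← conj_pow, hur, inv_pow, inv_inv]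
      have h2 : r ^ j * u0 = u0 * (r ^ j)⁻¹ := (mul_inv_eq_iff_eq_mul.1 h1).symm
      have h3 : (r ^ j)⁻¹ * (r ^ j)⁻¹ = r := by
        rw [← mul_inv_rev, ← pow_add]
        refine inv_eq_of_mul_eq_one_left ?_
        rw [← pow_succ', show j + j + 1 = orderOf r by omega, pow_orderOf_eq_one]
      calc r ^ j * u0 * (r ^ j)⁻¹ = u0 * ((r ^ j)⁻¹ * (r ^ j)⁻¹) := by rw [h2, mul_assoc]
        _ = u0 * r := by rw [h3]
        _ = v := by rw [hrdef, ← mul_assoc, hu, one_mul]
  have hKp : ¬ p ∣ Nat.card K := by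
    intro h
    obtain ⟨k, hk⟩ := exists_prime_orderOf_dvd_card' p h
    rw [← orderOf_coe, ← orderOf_coe] at hk
    obtain ⟨z, hz⟩ := CfsgLib.StrongEmbed.exists_fix e.se hu0
    have hk1 := c.inC_eq_one e
      (e.inC_of_commute hu0 hz (mem_centralizer_singleton_iff.1 (mem_subgroupOf.1 k.2)))
      (hk ▸ pow_orderOf_eq_one _)
    rw [hk1, orderOf_one] at hk
    exact hp.out.ne_one hk.symm
  have hvCX : (Nat.card CX).factorization p = f1.factorization p + 1 := by
    rw [← K.card_mul_index, hKidx, Nat.factorization_mul Nat.card_pos.ne' (mul_ne_zero hf1 hp.out.ne_zero),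
      Finsupp.add_apply, Nat.factorization_eq_zero_of_not_dvd hKp, zero_add,
      Nat.factorization_mul hf1 hp.out.ne_zero, Finsupp.add_apply, hp.out.factorization_self]
  -- the normalizer of `X` permutes the fixed cosets transitively
  set N := normalizer (X : Set G)
  set F := MulAction.orbit N o
  have hFeq : F = {z : G ⧸ M | x • z = z} := by
    refine Set.ext fun z => ⟨fun hz => c.smul_eq_of_orbit e hXfix hz (mem_zpowers x), fun hz => ?_⟩
    obtain ⟨g, rfl⟩ := QuotientGroup.mk_surjective z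
    have hgM : g⁻¹ * x * g ∈ M := CfsgLib.StrongEmbed.smul_mk_iff.1 hz
    have hcard : ∀ y : M, orderOf (y : G) = p → ∀ T : Sylow p M, zpowers y ≤ (T : Subgroup M) →
        (T : Subgroup M) = zpowers y := by
      intro y hy T hT
      refine (eq_of_le_of_card_ge hT ?_).symm
      rw [T.card_eq_multiplicity, hvM, pow_one, Nat.card_zpowers, ← orderOf_coe, hy]
    have hgo : orderOf (g⁻¹ * x * g) = p := by
      rw [show g⁻¹ * x * g = g⁻¹ * x * g⁻¹⁻¹ by rw [inv_inv], CfsgLib.Invol.orderOf_conj_eq, hxo]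
    obtain ⟨T, hT⟩ := (IsPGroup.of_card (n := 1) (by rw [Nat.card_zpowers, orderOf_mk, hgo, pow_one]) :
      IsPGroup p (zpowers (⟨g⁻¹ * x * g, hgM⟩ : M))).exists_le_sylow
    obtain ⟨T', hT'⟩ := (IsPGroup.of_card (n := 1) (by rw [Nat.card_zpowers, orderOf_mk, hxo, pow_one]) :
      IsPGroup p (zpowers (⟨x, hxM⟩ : M))).exists_le_sylow
    obtain ⟨m, hm⟩ := MulAction.exists_smul_eq M T T'
    have h1 : MulAut.conj m ⟨g⁻¹ * x * g, hgM⟩ ∈ (T' : Subgroup M) := by
      rw [← hm, Sylow.coe_subgroup_smul]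
      exact smul_mem_pointwise_smul _ _ _ (hT (mem_zpowers _))
    rw [hcard ⟨x, hxM⟩ hxo T' hT'] at h1
    set h := (m : G) * g⁻¹ with hhdef
    have h2 : h * x * h⁻¹ ∈ X := by
      obtain ⟨k, hk⟩ := mem_zpowers_iff.1 h1
      refine mem_zpowers_iff.2 ⟨k, ?_⟩
      have := congrArg Subtype.val hk
      simpa [hhdef, mul_assoc] using this
    have hN : h ∈ N := by
      refine mem_normalizer_iff_map_conj_eq.2 (eq_of_le_of_card_ge ?_
        (card_map_of_injective (MulAut.conj h).injective).ge)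
      rintro _ ⟨y, hy, rfl⟩
      obtain ⟨k, rfl⟩ := mem_zpowers_iff.1 hy
      show MulAut.conj h (x ^ k) ∈ X
      rw [map_zpow]
      exact zpow_mem h2 k
    refine ⟨⟨h⁻¹, inv_mem hN⟩, ?_⟩
    show h⁻¹ • o = _
    rw [CfsgLib.StrongEmbed.smul_mk_one_eq, QuotientGroup.eq, inv_inv, hhdef, mul_assoc, inv_mul_cancel,
      mul_one]
    exact m.2
  have hcardF : Nat.card F = f1 + 1 := by
    have h1 : f1 = ({z : G ⧸ M | x • z = z} \ {o}).ncard := Nat.card_coe_set_eq _
    rw [hFeq, Nat.card_coe_set_eq, h1, Set.ncard_sdiff_singleton_add_one (show o ∈ {z : G ⧸ M | x • z = z} from hxfo) (Set.toFinite _)]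
  have hFidx : Nat.card F = (M.subgroupOf N).index := by
    rw [show M.subgroupOf N = MulAction.stabilizer N o from (by
      ext g
      rw [MulAction.mem_stabilizer_iff, mem_subgroupOf]
      exact CfsgLib.StrongEmbed.smul_mk_one_iff.symm), MulAction.index_stabilizer, Nat.card_coe_set_eq]
  have hvStab : (Nat.card (M.subgroupOf N)).factorization p = 1 := by
    have hc : Nat.card (M.subgroupOf N) = Nat.card ↥(M ⊓ N) := by
      rw [show Nat.card (M.subgroupOf N) = Nat.card ↥((M ⊓ N).subgroupOf N) by rw [inf_subgroupOf_right],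
        Nat.card_congr (subgroupOfEquivOfLe (inf_le_right : M ⊓ N ≤ N)).toEquiv]
    refine le_antisymm ?_ ?_
    · rw [hc, ← hvM]
      exact (Nat.factorization_le_iff_dvd Nat.card_pos.ne' Nat.card_pos.ne').2 (card_dvd_of_le inf_le_left) p
    · refine hp.out.factorization_pos_of_dvd Nat.card_pos.ne' ?_
      rw [hc, ← hXcard]
      exact card_dvd_of_le (le_inf (zpowers_le.2 hxM) le_normalizer)
  have hCXN : CX ≤ N := by
    refine le_trans (le_of_eq ?_) (centralizer_le_normalizer _)
    show centralizer ({x} : Set G) = centralizer (zpowers x : Set G)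
    rw [zpowers_eq_closure, centralizer_closure]
  have hvN : (Nat.card N).factorization p = (Nat.card CX).factorization p := by
    obtain ⟨R⟩ : Nonempty (Sylow p N) := inferInstance
    haveI : (X.subgroupOf N).Normal := (normal_subgroupOf_iff_le_normalizer le_normalizer).2 le_rfl
    have hXp : IsPGroup p (X.subgroupOf N) := IsPGroup.of_card (n := 1) (by
      rw [Nat.card_congr (subgroupOfEquivOfLe (le_normalizer : X ≤ N)).toEquiv, hXcard, pow_one])
    have hXR : X.subgroupOf N ≤ (R : Subgroup N) := by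
      rw [← R.3 (hXp.to_sup_of_normal_left R.2) le_sup_right]
      exact le_sup_left
    set xN : N := ⟨x, le_normalizer (mem_zpowers x)⟩
    have hxR : xN ∈ (R : Subgroup N) := hXR (mem_subgroupOf.2 (mem_zpowers x))
    have hle : (R : Subgroup N) ≤ CX.subgroupOf N := by
      haveI : Group.IsNilpotent (R : Subgroup N) := R.2.isNilpotent
      set XR := (X.subgroupOf N).subgroupOf (R : Subgroup N)
      obtain ⟨w, ⟨hwX, hwc⟩, hw1⟩ := (bot_or_exists_ne_one (XR ⊓ center (R : Subgroup N))).resolve_left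
        (CfsgLib.PGroupBasic.inf_center_ne_bot XR fun h => hx1 (by
          have h1 : (⟨xN, hxR⟩ : (R : Subgroup N)) ∈ XR := mem_subgroupOf.2 (mem_subgroupOf.2 (mem_zpowers x))
          rw [h, mem_bot] at h1
          exact congrArg (fun y : (R : Subgroup N) => ((y : N) : G)) h1))
      set w' : G := ((w : N) : G)
      have hwX' : w' ∈ X := hwX
      have hw1' : w' ≠ 1 := fun h => hw1 (Subtype.ext (Subtype.ext h))
      have hXw : X = zpowers w' := by
        refine (eq_of_le_of_card_ge (zpowers_le.2 hwX') ?_).symm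
        have hd : orderOf w' ∣ p := hXcard ▸ Subgroup.orderOf_dvd_natCard X hwX'
        rw [hXcard, Nat.card_zpowers,
          ((Nat.dvd_prime hp.out).1 hd).resolve_left fun h => hw1' (orderOf_eq_one_iff.1 h)]
      intro y hy
      have hc : Commute (y : G) w' :=
        congrArg (fun z : (R : Subgroup N) => ((z : N) : G)) (mem_center_iff.1 hwc ⟨y, hy⟩)
      obtain ⟨k, hk⟩ := mem_zpowers_iff.1 (hXw ▸ mem_zpowers x : x ∈ zpowers w')
      exact mem_subgroupOf.2 (mem_centralizer_singleton_iff.2 (hk ▸ (hc.zpow_right k).eq))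
    have hnd : ¬ p ∣ (CX.subgroupOf N).index := fun h => R.not_dvd_index (h.trans (index_dvd_of_le hle))
    rw [← (CX.subgroupOf N).card_mul_index, Nat.factorization_mul Nat.card_pos.ne' index_ne_zero_of_finite,
      Finsupp.add_apply, Nat.factorization_eq_zero_of_not_dvd hnd, add_zero,
      Nat.card_congr (subgroupOfEquivOfLe hCXN).toEquiv]
  have hpf1 : ¬ p ∣ f1 := by
    intro hd
    have h1 := hp.out.factorization_pos_of_dvd hf1 hd
    have h2 : ¬ p ∣ f1 + 1 := fun h => hp.out.ne_one (Nat.eq_one_of_dvd_coprimes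
      (Nat.coprime_self_add_right.2 (Nat.coprime_one_right f1)) hd h)
    have h3 : (Nat.card N).factorization p = 1 + (f1 + 1).factorization p := by
      rw [← hcardF, hFidx, ← (M.subgroupOf N).card_mul_index,
        Nat.factorization_mul Nat.card_pos.ne' index_ne_zero_of_finite, Finsupp.add_apply, hvStab]
    rw [Nat.factorization_eq_zero_of_not_dvd h2, hvN, hvCX] at h3
    omega
  have hf1one : f1 = 1 := by
    by_contra h1
    obtain ⟨r, hr, hrd⟩ := Nat.exists_prime_and_dvd h1
    have hrp : r ≠ p := fun h => hpf1 (h ▸ hrd)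
    haveI := Fact.mk hr
    have hu0N : zpowers u0 ≤ normalizer (CX : Set G) := zpowers_le.2 (mem_normalizer_iff.2 fun g => by
      have key : ∀ g ∈ CX, u0 * g * u0⁻¹ ∈ CX := fun g hg => by
        rw [mem_centralizer_singleton_iff] at hg ⊢
        have hcm : Commute g x⁻¹ := (Commute.inv_right hg)
        have e1 : x = u0 * x⁻¹ * u0⁻¹ := by rw [← conj_inv, hu0inv, inv_inv]
        rw [e1]
        calc u0 * g * u0⁻¹ * (u0 * x⁻¹ * u0⁻¹) = u0 * (g * x⁻¹) * u0⁻¹ := by group
          _ = u0 * (x⁻¹ * g) * u0⁻¹ := by rw [hcm.eq]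
          _ = u0 * x⁻¹ * u0⁻¹ * (u0 * g * u0⁻¹) := by group
      refine ⟨key g, fun h => ?_⟩
      have h2 := key _ h
      rw [show u0 * (u0 * g * u0⁻¹) * u0⁻¹ = (u0 * u0) * g * (u0 * u0)⁻¹ by group,
        CfsgLib.Invol.mul_self_eq_one hu0] at h2
      simpa using h2)
    have hu2 : IsPGroup 2 (zpowers u0) := IsPGroup.of_card (n := 1) (by rw [Nat.card_zpowers, hu0, pow_one])
    haveI := hu2.isNilpotent
    obtain ⟨R, hR⟩ := CfsgLib.CoprimeAct.exists_invariant_sylow hu0N
      (by rw [Nat.card_zpowers, hu0]; exact (Nat.prime_two.coprime_iff_not_dvd).2 hCXodd)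
      (Or.inl inferInstance) r
    set RG := (R : Subgroup CX).map CX.subtype
    obtain ⟨k, hk⟩ := IsPGroup.iff_card.1 (R.2.map CX.subtype)
    have hr2 : r ≠ 2 := by
      rintro rfl
      refine hCXodd ?_
      rw [← K.card_mul_index, hKidx]
      exact Dvd.dvd.mul_left (Dvd.dvd.mul_right hrd p) _
    have hcent : u0 ∈ centralizer (RG : Set G) := c.hyp.centralizes
      (hk ▸ ((Nat.coprime_primes hr hp.out).2 hrp).pow_left k) (hR (mem_zpowers u0))
      (hu0 ▸ (Nat.coprime_primes Nat.prime_two hp.out).2 c.p_ne_two.symm)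
      (hu0 ▸ hk ▸ ((Nat.coprime_primes Nat.prime_two hr).2 hr2.symm).pow_right k)
    have hle : (R : Subgroup CX) ≤ K := fun y hy => mem_subgroupOf.2 (mem_centralizer_singleton_iff.2
      (mem_centralizer_iff.1 hcent _ (mem_map_of_mem CX.subtype hy)))
    have hdvd := index_dvd_of_le hle
    rw [hKidx] at hdvd
    exact R.not_dvd_index ((Dvd.dvd.mul_right hrd p).trans hdvd)
  -- `x` fixes exactly two cosets
  have hfix2 : ∀ z : G ⧸ M, x • z = z → z = o ∨ z = β := by
    intro z hz
    by_cases hzo : z = o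
    · exact Or.inl hzo
    haveI : Subsingleton {z : G ⧸ M // x • z = z ∧ z ≠ o} := (Nat.card_eq_one_iff_unique.1 hf1one).1
    exact Or.inr (congrArg Subtype.val (Subsingleton.elim
      (⟨z, hz, hzo⟩ : {z : G ⧸ M // x • z = z ∧ z ≠ o}) ⟨β, hxfβ, hne.symm⟩))
  have hpair : pairStab o β = X := c.pairStab_eq_zpowers e hne hx hx1
  have hCXM : ∀ g ∈ CX, g • o = o := by
    intro g hg
    have hperm : ∀ z : G ⧸ M, x • z = z → x • g • z = g • z := fun z hz => by
      rw [smul_smul, ← mem_centralizer_singleton_iff.1 hg, mul_smul, hz]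
    by_contra hgo
    have hgβ : g • o = β := (hfix2 _ (hperm o hxfo)).resolve_left hgo
    have hgβo : g • β = o := (hfix2 _ (hperm β hxfβ)).resolve_right fun h =>
      hne (MulAction.injective g (hgβ.trans h.symm))
    obtain ⟨j, hj⟩ : Odd (orderOf g) := Nat.not_even_iff_odd.1 fun he =>
      hCXodd (he.two_dvd.trans (Subgroup.orderOf_dvd_natCard CX hg))
    have h2 := even_pow_fix (g := g) (a := o) (by rw [hgβ, hgβo]) (j + 1)
    rw [show 2 * (j + 1) = orderOf g + 1 by omega, pow_succ, pow_orderOf_eq_one, one_mul] at h2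
    exact hgo h2
  have hCXX : CX = X := by
    have hXCX : X ≤ CX := zpowers_le.2 (mem_centralizer_singleton_iff.2 rfl)
    haveI : Subsingleton {t : G // t ∈ CX ∧ InC A t o} := ⟨fun a b => Subtype.ext (by
      have key : ∀ t : {t : G // t ∈ CX ∧ InC A t o}, (t : G) = 1 := fun t => by
        have hto := hCXM t t.2.1
        have ht : x • (t : G) • β = (t : G) • β := by
          rw [smul_smul, ← mem_centralizer_singleton_iff.1 t.2.1, mul_smul, hxfβ]
        have htβ : (t : G) • β = β := (hfix2 _ ht).resolve_left fun h =>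
          hne (MulAction.injective (t : G) (hto.trans h.symm))
        exact c.inC_eq_one e t.2.2 (c.pow_eq_one_of_pairStab e hne (mem_pairStab.2 ⟨hto, htβ⟩))
      rw [key a, key b])⟩
    haveI : Nonempty {t : G // t ∈ CX ∧ InC A t o} := ⟨⟨1, one_mem _, InC.one _⟩⟩
    have h := c.card_le_mul e CX o hCXM
    rw [Nat.card_unique (α := {t : G // t ∈ CX ∧ InC A t o}), mul_one] at h
    exact (eq_of_le_of_card_ge hXCX (hXcard.symm ▸ h)).symm
  -- the number of cosets is congruent to two modulo `p`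
  set n := Nat.card (G ⧸ M)
  have hn2 : n ≡ 2 [MOD p] := by
    have hXp : IsPGroup p X := IsPGroup.of_card (n := 1) (by rw [hXcard, pow_one])
    have h := hXp.card_modEq_card_fixedPoints (G ⧸ M)
    have hfp : MulAction.fixedPoints X (G ⧸ M) = {z : G ⧸ M | x • z = z} := by
      refine Set.ext fun z => ⟨fun hz => hz ⟨x, mem_zpowers x⟩, fun hz t => ?_⟩
      obtain ⟨k, hk⟩ := mem_zpowers_iff.1 t.2
      show (t : G) • z = z
      rw [← hk]
      exact (MulAction.stabilizer G z).zpow_mem hz k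
    rw [hfp, ← hFeq, hcardF, hf1one] at h
    exact h
  -- `M` moves every other coset to `β`
  have htrans : ∀ z : G ⧸ M, z ≠ o → ∃ m ∈ M, m • β = z := by
    intro z hz
    obtain ⟨d, hd, hd1⟩ := (bot_or_exists_ne_one (pairStab o z)).resolve_left fun h => by
      have := c.card_pairStab e (Ne.symm hz)
      rw [h, card_bot] at this
      exact hp.out.ne_one this.symm
    have hdo : orderOf d = p := c.orderOf_pairStab e (Ne.symm hz) hd hd1
    have hdM : d ∈ M := CfsgLib.StrongEmbed.smul_mk_one_iff.1 (mem_pairStab.1 hd).1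
    obtain ⟨T, hT⟩ := (IsPGroup.of_card (n := 1) (by rw [Nat.card_zpowers, orderOf_mk, hdo, pow_one]) :
      IsPGroup p (zpowers (⟨d, hdM⟩ : M))).exists_le_sylow
    obtain ⟨T', hT'⟩ := (IsPGroup.of_card (n := 1) (by rw [Nat.card_zpowers, orderOf_mk, hxo, pow_one]) :
      IsPGroup p (zpowers (⟨x, hxM⟩ : M))).exists_le_sylow
    obtain ⟨m, hm⟩ := MulAction.exists_smul_eq M T T'
    have h1 : MulAut.conj m ⟨d, hdM⟩ ∈ (T' : Subgroup M) := by
      rw [← hm, Sylow.coe_subgroup_smul]
      exact smul_mem_pointwise_smul _ _ _ (hT (mem_zpowers _))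
    have hT'eq : zpowers (⟨x, hxM⟩ : M) = (T' : Subgroup M) := eq_of_le_of_card_ge hT' (by
      rw [T'.card_eq_multiplicity, hvM, pow_one, Nat.card_zpowers, orderOf_mk, hxo])
    rw [← hT'eq] at h1
    obtain ⟨k, hk⟩ := mem_zpowers_iff.1 h1
    have hk' : x ^ k = (m : G) * d * (m : G)⁻¹ := by
      have := congrArg Subtype.val hk
      simpa using this
    have hXeq : zpowers ((m : G) * d * (m : G)⁻¹) = X := by
      refine eq_of_le_of_card_ge (zpowers_le.2 (mem_zpowers_iff.2 ⟨k, hk'⟩)) ?_
      rw [hXcard, Nat.card_zpowers, CfsgLib.Invol.orderOf_conj_eq, hdo]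
    have hdfix : ((m : G) * d * (m : G)⁻¹) • (m : G) • z = (m : G) • z := by
      rw [smul_smul, inv_mul_cancel_right, mul_smul, (mem_pairStab.1 hd).2]
    have hxmz : x • (m : G) • z = (m : G) • z := by
      obtain ⟨l, hl⟩ := mem_zpowers_iff.1 (hXeq ▸ mem_zpowers x : x ∈ zpowers ((m : G) * d * (m : G)⁻¹))
      rw [← hl]
      exact (MulAction.stabilizer G ((m : G) • z)).zpow_mem hdfix l
    refine ⟨(m : G)⁻¹, inv_mem m.2, ?_⟩
    rcases hfix2 _ hxmz with h | h
    · refine absurd ?_ hz
      rw [← inv_smul_smul (m : G) z, h]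
      exact inv_smul_eq_iff.2 (CfsgLib.StrongEmbed.smul_mk_one_iff.2 m.2).symm
    · rw [← h, inv_smul_smul]
  have hcn : Nat.card M = p * (n - 1) := by
    have horb : MulAction.orbit M β = {z : G ⧸ M | z ≠ o} := by
      refine Set.ext fun z => ⟨?_, fun hz => ?_⟩
      · rintro ⟨⟨m, hm⟩, rfl⟩ h
        have h' : m • β = o := h
        exact hne (MulAction.injective m ((CfsgLib.StrongEmbed.smul_mk_one_iff.2 hm).trans h'.symm))
      · obtain ⟨m, hm, rfl⟩ := htrans z hz
        exact ⟨⟨m, hm⟩, rfl⟩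
    have hst : MulAction.stabilizer M β = (pairStab o β).subgroupOf M := by
      ext m
      rw [MulAction.mem_stabilizer_iff, mem_subgroupOf, mem_pairStab]
      exact ⟨fun h => ⟨CfsgLib.StrongEmbed.smul_mk_one_iff.2 m.2, h⟩, fun h => h.2⟩
    have hle : pairStab o β ≤ M := hpair ▸ zpowers_le.2 hxM
    have h1 : ({z : G ⧸ M | z ≠ o}).ncard + 1 = n := by
      have h2 := Set.ncard_sdiff_singleton_add_one (Set.mem_univ o) (Set.toFinite _)
      rw [Set.ncard_univ] at h2
      refine Eq.trans ?_ h2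
      congr 2
      ext z
      simp
    have h3 := (MulAction.stabilizer M β).card_mul_index
    rw [MulAction.index_stabilizer, horb, hst, Nat.card_congr (subgroupOfEquivOfLe hle).toEquiv,
      c.card_pairStab e hne] at h3
    rw [← h3, ← h1, Nat.add_sub_cancel]
  -- prime by prime
  have hn1 : n ≠ 0 := Nat.card_pos.ne'
  have hpn : ¬ p ∣ n := by
    intro h
    have h2 : n % p = 2 % p := hn2
    rw [Nat.mod_eq_zero_of_dvd h, Nat.mod_eq_of_lt (by have := c.hp5; omega)] at h2
    omega
  have hcardG : Nat.card G = n * Nat.card M := M.card_eq_card_quotient_mul_card_subgroup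
  have hvG : (Nat.card G).factorization p = 1 := by
    rw [hcardG, Nat.factorization_mul hn1 Nat.card_pos.ne', Finsupp.add_apply,
      Nat.factorization_eq_zero_of_not_dvd hpn, zero_add, hvM]
  have hprime : ∀ r : ℕ, r.Prime → r ∣ n → r ^ n.factorization r % p = 1 := by
    intro r hr hrn
    haveI := Fact.mk hr
    have hrp : r ≠ p := fun h => hpn (h ▸ hrn)
    have hr2 : r ≠ 2 := by
      rintro rfl
      refine S.not_dvd_index (hrn.trans ?_)
      show Nat.card (G ⧸ M) ∣ _
      rw [← M.index_eq_card]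
      exact index_dvd_of_le e.sylow_le
    have hrM : ¬ r ∣ Nat.card M := by
      rw [hcn]
      intro h
      rcases hr.dvd_mul.1 h with h | h
      · exact hrp ((Nat.prime_dvd_prime_iff_eq hr hp.out).1 h)
      · exact hr.ne_one (Nat.dvd_one.1 ((Nat.dvd_add_right h).1 (by
          rwa [show n - 1 + 1 = n by omega])))
    have hrC : ¬ r ∣ Nat.card CA := fun h => hrM (hcardM ▸ Dvd.dvd.mul_right h p)
    have hvr : (Nat.card G).factorization r = n.factorization r := by
      rw [hcardG, Nat.factorization_mul hn1 Nat.card_pos.ne', Finsupp.add_apply,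
        Nat.factorization_eq_zero_of_not_dvd hrM, add_zero]
    obtain ⟨R⟩ : Nonempty (Sylow r G) := inferInstance
    have hrG : r ∣ Nat.card G := hcardG ▸ Dvd.dvd.mul_right hrn _
    have hR1 : (R : Subgroup G) ≠ ⊥ := R.ne_bot_of_dvd_card hrG
    have KA := CfsgLib.ZJ.zkind_centerThompsonA.{u} (p := r) hr2
    set Z := Cfsg.centerThompsonAOf (R : Subgroup G)
    set L := normalizer (Z : Set G)
    have hZR : Z ≤ (R : Subgroup G) := inf_le_left.trans (map_subtype_le _)
    have hZ1 : Z ≠ ⊥ := CfsgLib.Fusion.centerThompsonAOf_ne_bot R.2 hR1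
    have hLtop : L ≠ ⊤ := c.normalizer_ne_top_of_isPGroup (R.2.to_le hZR) hZ1
    have hRL : (R : Subgroup G) ≤ L := fun g hg => KA.normalizer_le _ (le_normalizer hg)
    haveI := c.solvable hLtop
    have hnoC : ¬ Cfsg.HasNormalPComplement r L := fun h =>
      c.not_hasNormalPComplement hrG (KA.hasNormalPComplement hr2 G R h)
    have hpL : p ∣ Nat.card L := by
      by_contra h
      haveI := c.hyp L (hp.out.coprime_iff_not_dvd.2 h).symm
      exact hnoC CfsgLib.FGSA.GT.npc_of_isNilpotent
    have hLodd : ¬ 2 ∣ Nat.card L := by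
      intro h2
      obtain ⟨H, hH1, hH2, -⟩ := CfsgLib.Hall.hall_pi (G := L) (fun q => q = 2 ∨ q = r)
      have hHp : (Nat.card H).Coprime p := (hp.out.coprime_iff_not_dvd.2 fun hd => by
        rcases hH1 p hp.out hd with h | h
        · exact c.p_ne_two h
        · exact hrp h.symm).symm
      have hdiv : ∀ q : ℕ, q.Prime → (q = 2 ∨ q = r) → q ∣ Nat.card L → q ∣ Nat.card H := by
        intro q hq hq2 hqL
        rw [← H.card_mul_index] at hqL
        exact (hq.dvd_mul.1 hqL).resolve_right fun h => hH2 q hq h hq2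
      obtain ⟨t, ht⟩ := exists_prime_orderOf_dvd_card' 2 (hdiv 2 Nat.prime_two (Or.inl rfl) h2)
      obtain ⟨y, hy⟩ := exists_prime_orderOf_dvd_card' r (hdiv r hr (Or.inr rfl)
        ((show r ∣ Nat.card (R : Subgroup G) by
          rw [R.card_eq_multiplicity]
          exact dvd_pow_self r (hr.factorization_pos_of_dvd Nat.card_pos.ne' hrG).ne').trans (card_dvd_of_le hRL)))
      rw [← orderOf_coe] at ht hy
      have hcm := (c.hyp.subgroup L).commute hHp y.2 t.2
        (ht.symm ▸ hy.symm ▸ ((Nat.coprime_primes hr Nat.prime_two).2 hr2))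
      rw [← orderOf_coe] at ht hy
      obtain ⟨z, hz⟩ := CfsgLib.StrongEmbed.exists_fix e.se ht
      have hin := e.inC_of_commute ht hz (congrArg Subtype.val hcm)
      obtain ⟨g, rfl⟩ := QuotientGroup.mk_surjective z
      refine hrC ?_
      have ho : orderOf (g⁻¹ * ((y : L) : G) * g) = r := by
        rw [show g⁻¹ * ((y : L) : G) * g = g⁻¹ * ((y : L) : G) * g⁻¹⁻¹ by rw [inv_inv],
          CfsgLib.Invol.orderOf_conj_eq, hy]
      exact ho ▸ Subgroup.orderOf_dvd_natCard _ (e.inC_mk.1 hin)
    obtain ⟨P⟩ : Nonempty (Sylow p L) := inferInstance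
    set PG := (P : Subgroup L).map L.subtype
    have hvL : (Nat.card L).factorization p = 1 := le_antisymm
      (hvG ▸ (Nat.factorization_le_iff_dvd Nat.card_pos.ne' Nat.card_pos.ne').2 L.card_subgroup_dvd_card p)
      (hp.out.factorization_pos_of_dvd Nat.card_pos.ne' hpL)
    have hPcard : Nat.card (P : Subgroup L) = p := by rw [P.card_eq_multiplicity, hvL, pow_one]
    obtain ⟨SX, hSX⟩ := (IsPGroup.of_card (n := 1) (by rw [hXcard, pow_one]) : IsPGroup p X).exists_le_sylow
    have hSXeq : (SX : Subgroup G) = X := (eq_of_le_of_card_ge hSX (by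
      rw [SX.card_eq_multiplicity, hvG, pow_one, hXcard])).symm
    obtain ⟨SP, hSP⟩ := (P.2.map L.subtype).exists_le_sylow
    have hSPeq : (SP : Subgroup G) = PG := (eq_of_le_of_card_ge hSP (by
      rw [SP.card_eq_multiplicity, hvG, pow_one, card_map_of_injective L.subtype_injective, hPcard])).symm
    obtain ⟨g, hg⟩ := MulAction.exists_smul_eq G SX SP
    have hPGm : ∀ y : G, y ∈ PG ↔ g⁻¹ * y * g ∈ X := fun y => by
      rw [← hSPeq, ← hg, Sylow.coe_subgroup_smul, Subgroup.mem_pointwise_smul_iff_inv_smul_mem, hSXeq]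
      simp [mul_assoc]
    -- self-normalizing in `L`
    have hself : normalizer ((P : Subgroup L) : Set L) ≤ centralizer ((P : Subgroup L) : Set L) := by
      intro l hl
      set l' := g⁻¹ * (l : G) * g with hl'def
      have key : ∀ w : G, w ∈ X ↔ ∃ q ∈ (P : Subgroup L), g⁻¹ * (q : G) * g = w := fun w => by
        refine ⟨fun hw => ?_, ?_⟩
        · obtain ⟨q, hq, hqe⟩ := (hPGm (g * w * g⁻¹)).2 (by simpa [mul_assoc] using hw)
          refine ⟨q, hq, ?_⟩
          have hqe' : (q : G) = g * w * g⁻¹ := hqe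
          rw [hqe']
          group
        · rintro ⟨q, hq, rfl⟩
          exact (hPGm _).1 (mem_map_of_mem L.subtype hq)
      have hl' : l' ∈ N := by
        refine mem_normalizer_iff_map_conj_eq.2 (eq_of_le_of_card_ge ?_
          (card_map_of_injective (MulAut.conj l').injective).ge)
        rintro _ ⟨w, hw, rfl⟩
        obtain ⟨q, hq, rfl⟩ := (key w).1 hw
        exact (key _).2 ⟨l * q * l⁻¹, (mem_normalizer_iff.1 hl q).1 hq, by simp [hl'def, mul_assoc]⟩
      have hcardN : Nat.card N ∣ 2 * (p * 1) := by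
        rw [← (M.subgroupOf N).card_mul_index, ← hFidx, hcardF, hf1one, mul_comm]
        refine mul_dvd_mul dvd_rfl ?_
        have hsub : ∀ k : M.subgroupOf N, ((k : N) : G) ∈ X := fun k => by
          have hkM : ((k : N) : G) ∈ M := mem_subgroupOf.1 k.2
          rw [← hCXX, mem_centralizer_singleton_iff, ← commutatorElement_eq_one_iff_mul_comm]
          have h1 : ⁅((k : N) : G), x⁆ ∈ X := by
            rw [commutatorElement_def]
            exact mul_mem ((mem_normalizer_iff.1 (k : N).2 x).1 (mem_zpowers x)) (inv_mem (mem_zpowers x))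
          have h2 : ⁅((k : N) : G), x⁆ ^ p = 1 := by
            have := Subgroup.orderOf_dvd_natCard X h1
            rw [hXcard] at this
            exact orderOf_dvd_iff_pow_eq_one.1 this
          exact c.inC_eq_one e (x := o) (e.inC_one_iff.2
            (c.commutator_mem_centralizer e.toEmb (e.hle hkM) (e.hle hxM))) h2
        rw [mul_one, ← hXcard]
        exact card_dvd_of_injective ({ toFun := fun k => ⟨_, hsub k⟩
                                       map_one' := rfl
                                       map_mul' := fun _ _ => rfl } : M.subgroupOf N →* X)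
          fun a b h => Subtype.ext (Subtype.ext (congrArg Subtype.val h :))
      have hlo : orderOf l' ∣ p := by
        have h1 : orderOf l' ∣ 2 * (p * 1) := (Subgroup.orderOf_dvd_natCard N hl').trans hcardN
        rw [mul_one] at h1
        have h2 : orderOf l' = orderOf (l : G) := by
          rw [hl'def, show g⁻¹ * (l : G) * g = g⁻¹ * (l : G) * g⁻¹⁻¹ by rw [inv_inv],
            CfsgLib.Invol.orderOf_conj_eq]
        refine Nat.Coprime.dvd_of_dvd_mul_left ?_ h1
        rw [h2]
        refine ((Nat.prime_two.coprime_iff_not_dvd).2 fun h => hLodd ?_).symm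
        exact h.trans (Subgroup.orderOf_dvd_natCard L l.2)
      have hlX : l' ∈ X := by
        -- a Sylow subgroup containing `l'` and `X`
        have hXl : IsPGroup p ↥(X ⊔ zpowers l') := by
          have hxp' : IsPGroup p X := IsPGroup.of_card (n := 1) (by rw [hXcard, pow_one])
          have hlp : IsPGroup p (zpowers l') := by
            obtain ⟨i, -, hi⟩ := (Nat.dvd_prime_pow hp.out).1 (by rw [pow_one]; exact hlo : orderOf l' ∣ p ^ 1)
            exact IsPGroup.of_card (n := i) (by rw [Nat.card_zpowers, hi])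
          exact hxp'.to_sup_of_normal_left' hlp (zpowers_le.2 hl')
        obtain ⟨T, hT⟩ := hXl.exists_le_sylow
        have hTX : X = (T : Subgroup G) := eq_of_le_of_card_ge (le_sup_left.trans hT) (by
          rw [T.card_eq_multiplicity, hvG, pow_one, hXcard])
        exact hTX ▸ hT (mem_sup_right (mem_zpowers l'))
      refine mem_centralizer_iff.2 fun q hq => Subtype.ext ?_
      have hq' : g⁻¹ * (q : G) * g ∈ X := (key _).2 ⟨q, hq, rfl⟩
      obtain ⟨i, hi⟩ := mem_zpowers_iff.1 hq'
      obtain ⟨j, hj⟩ := mem_zpowers_iff.1 hlX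
      have h : g⁻¹ * (q : G) * g * l' = l' * (g⁻¹ * (q : G) * g) := by
        rw [← hi, ← hj, ← zpow_add, ← zpow_add, add_comm]
      show (q : G) * l = l * q
      calc (q : G) * l = g * (g⁻¹ * (q : G) * g * l') * g⁻¹ := by rw [hl'def]; group
        _ = g * (l' * (g⁻¹ * (q : G) * g)) * g⁻¹ := by rw [h]
        _ = l * q := by rw [hl'def]; group
    obtain ⟨P', K', hK'n, hK'c⟩ := CfsgLib.TransferBasic.hasNormalPComplement_of_le_centralizer P hself
    have hP'card : Nat.card (P' : Subgroup L) = p := by rw [P'.card_eq_multiplicity, hvL, pow_one]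
    have hK'card : Nat.card K' * p = Nat.card L := hP'card ▸ hK'c.card_mul_card
    have hK'p : (Nat.card K').Coprime p := (hp.out.coprime_iff_not_dvd.2 fun h => by
      have h2 := mul_dvd_mul h (dvd_refl p)
      rw [hK'card, ← pow_two] at h2
      have h3 := (Nat.Prime.pow_dvd_iff_le_factorization hp.out Nat.card_pos.ne').1 h2
      omega).symm
    haveI := (c.hyp.subgroup L) K' hK'p
    obtain ⟨R0⟩ : Nonempty (Sylow r K') := inferInstance
    haveI : (R0 : Subgroup K').Characteristic := Sylow.characteristic_of_normal R0 inferInstance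
    set RL := (R0 : Subgroup K').map K'.subtype
    haveI := hK'n
    have hRLn : RL.Normal := ConjAct.normal_of_characteristic_of_normal
    have hRcard : Nat.card RL = r ^ n.factorization r := by
      rw [card_map_of_injective K'.subtype_injective, R0.card_eq_multiplicity]
      congr 1
      have h1 : (Nat.card L).factorization r = (Nat.card G).factorization r := by
        refine le_antisymm ((Nat.factorization_le_iff_dvd Nat.card_pos.ne' Nat.card_pos.ne').2
          L.card_subgroup_dvd_card r) ?_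
        have h2 := (Nat.factorization_le_iff_dvd Nat.card_pos.ne' Nat.card_pos.ne').2 (card_dvd_of_le hRL) r
        rwa [R.card_eq_multiplicity, Nat.Prime.factorization_pow hr, Finsupp.single_eq_same] at h2
      rw [← hvr, ← h1, ← hK'card, Nat.factorization_mul Nat.card_pos.ne' hp.out.ne_zero, Finsupp.add_apply,
        Nat.factorization_eq_zero_of_not_dvd (n := p) fun h => hrp ((Nat.prime_dvd_prime_iff_eq hr hp.out).1 h),
        add_zero]
    letI : MulAction (P : Subgroup L) RL :=
      { smul := fun q y => ⟨(q : L) * y * (q : L)⁻¹, hRLn.conj_mem _ y.2 _⟩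
        one_smul := fun y => Subtype.ext (by
          show ((1 : (P : Subgroup L)) : L) * y * ((1 : (P : Subgroup L)) : L)⁻¹ = y
          simp)
        mul_smul := fun q q' y => Subtype.ext (by
          show ((q * q' : (P : Subgroup L)) : L) * y * ((q * q' : (P : Subgroup L)) : L)⁻¹ =
            (q : L) * ((q' : L) * y * (q' : L)⁻¹) * (q : L)⁻¹
          simp [mul_assoc]) }
    have hmod := P.2.card_modEq_card_fixedPoints RL
    haveI : Subsingleton (MulAction.fixedPoints (P : Subgroup L) RL) := ⟨fun a b => by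
      have key : ∀ y : MulAction.fixedPoints (P : Subgroup L) RL, ((y.1 : RL) : L) = 1 := by
        intro y
        set v := g⁻¹ * (((y.1 : RL) : L) : G) * g with hvdef
        obtain ⟨q, hq, hqe⟩ := (hPGm (g * x * g⁻¹)).2 (by simp [mul_assoc, X])
        have hqe' : (q : G) = g * x * g⁻¹ := hqe
        have hfx : (q : L) * (y.1 : RL) * (q : L)⁻¹ = (y.1 : RL) := congrArg Subtype.val (y.2 ⟨q, hq⟩)
        have hfx' : g * x * g⁻¹ * (((y.1 : RL) : L) : G) = (((y.1 : RL) : L) : G) * (g * x * g⁻¹) := by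
          rw [← hqe']
          exact mul_inv_eq_iff_eq_mul.1 (congrArg Subtype.val hfx)
        have hvX : v ∈ X := by
          rw [← hCXX, mem_centralizer_singleton_iff, hvdef]
          calc g⁻¹ * (((y.1 : RL) : L) : G) * g * x
              = g⁻¹ * ((((y.1 : RL) : L) : G) * (g * x * g⁻¹)) * g := by group
            _ = g⁻¹ * (g * x * g⁻¹ * (((y.1 : RL) : L) : G)) * g := by rw [hfx']
            _ = x * (g⁻¹ * (((y.1 : RL) : L) : G) * g) := by group
        have hd1 : orderOf ((y.1 : RL) : L) ∣ r ^ n.factorization r :=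
          hRcard ▸ Subgroup.orderOf_dvd_natCard RL (y.1 : RL).2
        have hd2 : orderOf ((y.1 : RL) : L) ∣ p := by
          refine dvd_trans ?_ (hXcard ▸ Subgroup.orderOf_dvd_natCard X hvX : orderOf v ∣ p)
          refine dvd_of_eq ?_
          rw [← orderOf_coe]
          rw [hvdef, show g⁻¹ * (((y.1 : RL) : L) : G) * g = g⁻¹ * (((y.1 : RL) : L) : G) * g⁻¹⁻¹ by
            rw [inv_inv], CfsgLib.Invol.orderOf_conj_eq]
        exact orderOf_eq_one_iff.1
          (Nat.eq_one_of_dvd_coprimes (((Nat.coprime_primes hr hp.out).2 hrp).pow_left _) hd1 hd2)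
      exact Subtype.ext (Subtype.ext (by rw [key a, key b]))⟩
    haveI : Nonempty (MulAction.fixedPoints (P : Subgroup L) RL) := ⟨⟨1, fun q => Subtype.ext (by
      show (q : L) * ((1 : RL) : L) * (q : L)⁻¹ = ((1 : RL) : L)
      simp)⟩⟩
    rw [Nat.card_unique (α := MulAction.fixedPoints (P : Subgroup L) RL), hRcard] at hmod
    exact Eq.trans hmod (Nat.mod_eq_of_lt hp.out.one_lt)
  have hprod : n % p = 1 := by
    conv_lhs => rw [← Nat.prod_factorization_pow_eq_self hn1]
    rw [Finsupp.prod, Finset.prod_nat_mod, Finset.prod_eq_one, Nat.one_mod_eq_one.2 hp.out.ne_one]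
    intro r hr
    rw [Nat.support_factorization] at hr
    exact hprime r (Nat.prime_of_mem_primeFactors hr) (Nat.dvd_of_mem_primeFactors hr)
  have h2 : n % p = 2 % p := hn2
  rw [hprod, Nat.mod_eq_of_lt (by have := c.hp5; omega)] at h2
  omega

end CfsgLib.PPrimeNil
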