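import Cfsg.Agent.PPrimeNil.CaseTwoBase
import Mathlib.Data.ZMod.Basic
import Mathlib.Algebra.BigOperators.Group.Finset.Basic

/-!
Orbits of the normalizer of a pair stabilizer of order `p ^ 2`.
-/

set_option autoImplicit false
set_option linter.style.haveILetI false
set_option linter.unusedSectionVars false

namespace CfsgLib.PPrimeNil

open Subgroup

universe u

/-- A finite type with a fixed-point-free involutive self-map has even cardinality. -/
theorem even_card_of_fpf {α : Type*} [Finite α] (f : α → α) (h2 : ∀ a, f (f a) = a) (hne : ∀ a, f a ≠ a) :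
    Even (Nat.card α) := by
  classical
  haveI := Fintype.ofFinite α
  have h : (∑ _a : α, (1 : ZMod 2)) = 0 :=
    Finset.sum_involution (fun a _ => f a) (fun a _ => by decide) (fun a _ _ => hne a)
      (fun a _ => Finset.mem_univ _) fun a _ => h2 a
  rw [Finset.sum_const, Finset.card_univ, nsmul_one, ZMod.natCast_eq_zero_iff_even,
    ← Nat.card_eq_fintype_card] at h
  exact h

variable {G : Type u} [Group G] [Finite G] {p : ℕ} [hp : Fact p.Prime]
variable {S : Sylow 2 G} {A M : Subgroup G}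
variable (c : Ctx p G) (e : Two p S A M)
include c e

theorem Ctx.swap_normalizes {x y : G ⧸ M} {u : G} (hu : orderOf u = 2) (huxy : u • x = y) :
    u ∈ normalizer (pairStab x y : Set G) := by
  have key : ∀ t ∈ pairStab x y, u * t * u⁻¹ ∈ pairStab x y := by
    intro t ht
    obtain ⟨hx, hy⟩ := mem_pairStab.1 ht
    have hui : u⁻¹ = u := CfsgLib.Invol.inv_eq_self hu
    refine mem_pairStab.2 ⟨?_, ?_⟩
    · rw [mul_smul, mul_smul, hui, huxy, hy, c.swap_back e hu huxy]
    · rw [mul_smul, mul_smul, hui, c.swap_back e hu huxy, hx, huxy]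
  refine mem_normalizer_iff.2 fun t => ⟨key t, fun h => ?_⟩
  have h2 := key _ h
  rw [show u * (u * t * u⁻¹) * u⁻¹ = (u * u) * t * (u * u)⁻¹ by group,
    CfsgLib.Invol.mul_self_eq_one hu] at h2
  simpa using h2

theorem Ctx.smul_eq_of_orbit {X : Subgroup G} {x z : G ⧸ M} (hX : ∀ t ∈ X, t • x = x)
    (hz : z ∈ MulAction.orbit (normalizer (X : Set G)) x) {t : G} (ht : t ∈ X) : t • z = z := by
  obtain ⟨⟨n, hn⟩, rfl⟩ := hz
  show t • (n • x) = n • x
  have h := hX _ ((mem_normalizer_iff.1 (inv_mem hn) t).1 ht)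
  rw [inv_inv] at h
  calc t • n • x = n • ((n⁻¹ * t * n) • x) := by simp [smul_smul, mul_assoc]
    _ = n • x := by rw [h]

/-- The facts about the orbit of `x` under the normalizer of a pair stabilizer of order `p ^ 2`. -/
theorem Ctx.orbit_facts {x y : G ⧸ M} (hxy : x ≠ y) (hD : Nat.card (pairStab x y) = p ^ 2) {u : G}
    (hu : orderOf u = 2) (huxy : u • x = y) :
    y ∈ MulAction.orbit (normalizer (pairStab x y : Set G)) x ∧
      (∀ z ∈ MulAction.orbit (normalizer (pairStab x y : Set G)) x, u • z ≠ z) ∧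
      Even (Nat.card (MulAction.orbit (normalizer (pairStab x y : Set G)) x)) ∧
      Nat.card (MulAction.orbit (normalizer (pairStab x y : Set G)) x) ≤ p + 1 ∧
      (Nat.card (MulAction.orbit (normalizer (pairStab x y : Set G)) x) = p + 1 →
        ∀ t ∈ pairStab x y, t ≠ 1 →
          ∃ z ∈ MulAction.orbit (normalizer (pairStab x y : Set G)) x, InC A t z) := by
  classical
  set D := pairStab x y with hDdef
  set F := MulAction.orbit (normalizer (D : Set G)) x
  have hun : u ∈ normalizer (D : Set G) := c.swap_normalizes e hu huxy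
  have hfix : ∀ z ∈ F, ∀ t ∈ D, t • z = z := fun z hz t ht =>
    c.smul_eq_of_orbit e (fun t ht => (mem_pairStab.1 ht).1) hz ht
  have hno : ∀ z ∈ F, u • z ≠ z := by
    intro z hz huz
    obtain ⟨d, hd1, hd, hinv⟩ := c.exists_inverted e hxy hu huxy
    refine hd1 (e.eq_one_of_inverted hu huz (hfix z hz d hd) ?_ hinv)
    rw [c.orderOf_pairStab e hxy hd hd1]
    exact c.p_odd
  -- a nontrivial element attached to each point of the orbit
  have hex : ∀ z : F, ∃ t ∈ D, t ≠ 1 ∧ InC A t (z : G ⧸ M) := by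
    intro z
    by_contra hno'
    push Not at hno'
    haveI : Subsingleton {t : G // t ∈ D ∧ InC A t (z : G ⧸ M)} := ⟨fun a b => Subtype.ext (by
      have key : ∀ t : {t : G // t ∈ D ∧ InC A t (z : G ⧸ M)}, (t : G) = 1 := fun t => by
        by_contra h
        exact hno' t t.2.1 h t.2.2
      rw [key a, key b])⟩
    haveI : Nonempty {t : G // t ∈ D ∧ InC A t (z : G ⧸ M)} := ⟨⟨1, one_mem _, InC.one _⟩⟩
    have := c.card_le_mul e D z fun t ht => hfix z z.2 t ht
    rw [hD, Nat.card_unique, mul_one, pow_two] at this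
    have h1 : p * p ≤ p * 1 := by
      rw [mul_one]
      exact this
    exact absurd (Nat.le_of_mul_le_mul_left h1 hp.out.pos) (not_le.2 hp.out.one_lt)
  choose t htD ht1 htC using hex
  let ψ : F × Fin (p - 1) → {s : G // s ∈ D ∧ s ≠ 1} := fun a =>
    ⟨t a.1 ^ ((a.2 : ℕ) + 1), pow_mem (htD _) _, fun h => by
      have h1 := Nat.le_of_dvd (Nat.succ_pos _) (orderOf_dvd_of_pow_eq_one h)
      rw [c.orderOf_pairStab e hxy (htD _) (ht1 _)] at h1
      have := a.2.2
      omega⟩
  have hψ : Function.Injective ψ := by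
    rintro ⟨z, j⟩ ⟨z', j'⟩ h
    have h' : t z ^ ((j : ℕ) + 1) = t z' ^ ((j' : ℕ) + 1) := congrArg Subtype.val h
    have hne : t z ^ ((j : ℕ) + 1) ≠ 1 := (ψ (z, j)).2.2
    have hz : z = z' := Subtype.ext (c.inC_unique e hne ((htC z).pow _) (h' ▸ (htC z').pow _))
    subst hz
    have hj := pow_injOn_Iio_orderOf (x := t z) (by
      show (j : ℕ) + 1 < orderOf (t z)
      rw [c.orderOf_pairStab e hxy (htD _) (ht1 _)]
      omega) (by
      show (j' : ℕ) + 1 < orderOf (t z)
      rw [c.orderOf_pairStab e hxy (htD _) (ht1 _)]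
      omega) h'
    exact Prod.ext rfl (Fin.ext (by simpa using hj))
  have hcardD : Nat.card {s : G // s ∈ D ∧ s ≠ 1} + 1 = p ^ 2 := by
    rw [← hD]
    exact card_sharp D
  have hle := Nat.card_le_card_of_injective ψ hψ
  rw [Nat.card_prod, Nat.card_fin] at hle
  have hp1 : p ^ 2 = (p + 1) * (p - 1) + 1 := by
    obtain ⟨k, rfl⟩ : ∃ k, p = k + 1 := ⟨p - 1, by have := hp.out.pos; omega⟩
    simp only [Nat.add_sub_cancel]
    ring
  refine ⟨⟨⟨u, hun⟩, huxy⟩, hno, ?_, ?_, ?_⟩
  · refine even_card_of_fpf (fun z : F => (⟨u • (z : G ⧸ M), ?_⟩ : F)) (fun z => Subtype.ext ?_)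
      fun z h => hno z z.2 (congrArg Subtype.val h)
    · obtain ⟨n, hn⟩ := z.2
      exact ⟨⟨u, hun⟩ * n, (mul_smul (⟨u, hun⟩ : normalizer (D : Set G)) n x).trans (congrArg (u • ·) hn)⟩
    · show u • u • (z : G ⧸ M) = z
      rw [smul_smul, CfsgLib.Invol.mul_self_eq_one hu, one_smul]
  · exact Nat.le_of_mul_le_mul_right (by omega) (show 0 < p - 1 by have := c.hp5; omega)
  · intro hF s hs hs1
    have hbij : Function.Bijective ψ := (Nat.bijective_iff_injective_and_card ψ).2
      ⟨hψ, by rw [Nat.card_prod, Nat.card_fin, hF]; omega⟩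
    obtain ⟨⟨z, j⟩, hzj⟩ := hbij.2 ⟨s, hs, hs1⟩
    refine ⟨z, z.2, ?_⟩
    have h' : t z ^ ((j : ℕ) + 1) = s := congrArg Subtype.val hzj
    exact h' ▸ (htC z).pow _

/-- A nontrivial element of the pair stabilizer fixed by the swap. -/
theorem Ctx.exists_fixed_by_swap {x y : G ⧸ M} (hxy : x ≠ y) {u t : G} (hu : orderOf u = 2)
    (huxy : u • x = y) (ht : t ∈ pairStab x y) (ht1 : t ≠ 1) (htC : InC A t x) :
    ∃ v ∈ pairStab x y, v ≠ 1 ∧ v * u = u * v := by
  have hun := c.swap_normalizes e hu huxy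
  have ht' : u * t * u⁻¹ ∈ pairStab x y := (mem_normalizer_iff.1 hun t).1 ht
  have hc := c.commute_of_pairStab e hxy ht ht'
  refine ⟨t * (u * t * u⁻¹), mul_mem ht ht', fun h => ht1 ?_, ?_⟩
  · exact c.eq_one_of_inverted_inC e hxy huxy (eq_inv_of_mul_eq_one_right h) htC
  · rw [CfsgLib.Invol.inv_eq_self hu] at hc ⊢
    have huu := CfsgLib.Invol.mul_self_eq_one hu
    calc t * (u * t * u) * u = t * (u * t) * (u * u) := by group
      _ = t * (u * t) := by rw [huu, mul_one]
      _ = (u * u) * (t * (u * t)) := by rw [huu, one_mul]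
      _ = u * ((u * t * u) * t) := by group
      _ = u * (t * (u * t * u)) := by rw [hc]

end CfsgLib.PPrimeNil
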