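import Cfsg.Agent.PPrimeNil.CaseTwoOrbit
import Cfsg.Agent.Transfer.Basic

/-!
The prime `p` does not divide the order of the trivial-intersection subgroup `C(A)`.
-/

set_option autoImplicit false
set_option linter.style.haveILetI false
set_option linter.unusedSectionVars false

namespace CfsgLib.PPrimeNil

open Subgroup

universe u

variable {G : Type u} [Group G] [Finite G]

/-- A central element of a subgroup lies in the centre of its Thompson subgroup. -/
theorem mem_centerThompsonAOf {P : Subgroup G} {w : G} (hw : w ∈ P)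
    (hwc : w ∈ centralizer (P : Set G)) : w ∈ Cfsg.centerThompsonAOf P := by
  classical
  haveI := Fintype.ofFinite (Subgroup P)
  obtain ⟨B, hB, hmax⟩ := Finset.exists_max_image
    (Finset.univ.filter fun K : Subgroup P => IsMulCommutative K) (fun K => Nat.card K)
    ⟨⊥, Finset.mem_filter.2 ⟨Finset.mem_univ _, inferInstance⟩⟩
  rw [Finset.mem_filter] at hB
  haveI := hB.2
  have hBmax : B ∈ Cfsg.maxAbelianSubgroups P :=
    ⟨hB.2, fun K hK => hmax K (Finset.mem_filter.2 ⟨Finset.mem_univ _, hK⟩)⟩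
  have hwB : (⟨w, hw⟩ : P) ∈ B := by
    set K := B ⊔ zpowers (⟨w, hw⟩ : P)
    have hwK : ∀ y : P, y * ⟨w, hw⟩ = ⟨w, hw⟩ * y := fun y =>
      Subtype.ext (mem_centralizer_iff.1 hwc y y.2)
    have hK : IsMulCommutative K := by
      refine Subgroup.le_centralizer_iff_isMulCommutative.1 (sup_le ?_ ?_)
      · refine le_centralizer_iff.1 (sup_le (le_centralizer_iff_isMulCommutative.2 hB.2) ?_)
        exact zpowers_le.2 (mem_centralizer_iff.2 fun y _ => hwK y)
      · exact zpowers_le.2 (mem_centralizer_iff.2 fun y _ => hwK y)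
    have hle : Nat.card K ≤ Nat.card B := hmax K (Finset.mem_filter.2 ⟨Finset.mem_univ _, hK⟩)
    rw [eq_of_le_of_card_ge (le_sup_left : B ≤ K) hle]
    exact mem_sup_right (mem_zpowers _)
  refine ⟨⟨⟨w, hw⟩, le_sSup (s := Cfsg.maxAbelianSubgroups P) hBmax hwB, rfl⟩, ?_⟩
  exact centralizer_le (fun y hy => map_subtype_le _ hy) hwc

variable {p : ℕ} [hp : Fact p.Prime] {S : Sylow 2 G} {A M : Subgroup G}
variable (c : Ctx p G) (e : Two p S A M)
include c e

theorem Ctx.not_dvd_card_centralizer : ¬ p ∣ Nat.card (centralizer (A : Set G)) := by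
  classical
  intro hdvd
  haveI : Fact (Nat.Prime 2) := ⟨Nat.prime_two⟩
  set CA := centralizer (A : Set G)
  set o : G ⧸ M := QuotientGroup.mk 1
  obtain ⟨Sp⟩ : Nonempty (Sylow p M) := inferInstance
  set P := (Sp : Subgroup M).map M.subtype
  have hPM : P ≤ M := map_subtype_le _
  have hPp : IsPGroup p P := Sp.2.map _
  have hcardM := c.card_M e
  obtain ⟨a, ha⟩ := IsPGroup.iff_card.1 hPp
  have hP2 : p ^ 2 ∣ Nat.card P := by
    have h1 : p ^ 2 ∣ Nat.card M := by
      rw [hcardM, pow_two]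
      exact mul_dvd_mul hdvd dvd_rfl
    have h2 := Nat.Prime.pow_dvd_iff_le_factorization (n := Nat.card M) (k := 2) hp.out Nat.card_pos.ne'
    rw [card_map_of_injective M.subtype_injective, Sp.card_eq_multiplicity]
    exact pow_dvd_pow p (h2.1 h1)
  have hP2' : p ^ 2 ≤ Nat.card P := Nat.le_of_dvd Nat.card_pos hP2
  have hPfix : ∀ t ∈ P, t • o = o := fun t ht => CfsgLib.StrongEmbed.smul_mk_one_iff.2 (hPM ht)
  obtain ⟨t0, ht0P, ht01, ht0C⟩ : ∃ t ∈ P, t ≠ 1 ∧ InC A t o := by
    by_contra hno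
    push Not at hno
    haveI : Subsingleton {t : G // t ∈ P ∧ InC A t o} := ⟨fun a b => Subtype.ext (by
      have key : ∀ t : {t : G // t ∈ P ∧ InC A t o}, (t : G) = 1 := fun t => by
        by_contra h
        exact hno t t.2.1 h t.2.2
      rw [key a, key b])⟩
    haveI : Nonempty {t : G // t ∈ P ∧ InC A t o} := ⟨⟨1, one_mem _, InC.one _⟩⟩
    have := c.card_le_mul e P o hPfix
    rw [Nat.card_unique (α := {t : G // t ∈ P ∧ InC A t o}), mul_one] at this
    have h3 : p ^ 2 ≤ p ^ 1 := by rw [pow_one]; exact hP2'.trans this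
    exact absurd ((Nat.pow_le_pow_iff_right hp.out.one_lt).1 h3) (by norm_num)
  -- two points fixed by `P` force `P` to be their pair stabilizer
  have hpair : ∀ n ∈ normalizer (P : Set G), n ∉ M →
      o ≠ n • o ∧ pairStab o (n • o) = P ∧ Nat.card P = p ^ 2 := by
    intro n hn hnM
    have hne : o ≠ n • o := fun h => hnM (CfsgLib.StrongEmbed.smul_mk_one_iff.1 h.symm)
    have hle : P ≤ pairStab o (n • o) := fun t ht => mem_pairStab.2
      ⟨hPfix t ht, c.smul_eq_of_orbit e hPfix ⟨⟨n, hn⟩, rfl⟩ ht⟩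
    have hcD := c.card_pairStab_le e hne
    have heq := (eq_of_le_of_card_ge hle (hcD.trans hP2')).symm
    exact ⟨hne, heq, le_antisymm (heq ▸ hcD) hP2'⟩
  -- `P` is a Sylow subgroup of `G`
  obtain ⟨PG, hPG⟩ := hPp.exists_le_sylow
  have hPeq : P = PG := by
    by_contra hne
    have hlt := CfsgLib.Fusion.lt_inf_normalizer PG.2 (lt_of_le_of_ne hPG hne)
    set R := (PG : Subgroup G) ⊓ normalizer (P : Set G)
    have hmaxP : ∀ X : Subgroup G, IsPGroup p X → P ≤ X → X ≤ M → X = P := fun X hX hPX hXM => by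
      have h := Sp.3 (hX.comap_subtype (K := M)) fun y hy => hPX (mem_map_of_mem M.subtype hy)
      rw [← map_subgroupOf_eq_of_le hXM]
      exact congrArg (Subgroup.map M.subtype) h
    obtain ⟨n, hnR, hnM⟩ : ∃ n ∈ R, n ∉ M := by
      by_contra hno
      push Not at hno
      exact hlt.ne (hmaxP R (PG.2.to_le inf_le_left) hlt.le hno).symm
    obtain ⟨hno', hD, hcard⟩ := hpair n hnR.2 hnM
    obtain ⟨u, hu, huxy⟩ := CfsgLib.StrongEmbed.exists_swap e.se hno'
    obtain ⟨hy, -, hev, hle, -⟩ := c.orbit_facts e hno' (hD ▸ hcard) hu huxy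
    rw [hD] at hy hev hle
    set N := normalizer (P : Set G)
    set F := MulAction.orbit N o
    have hstab : MulAction.stabilizer N o = M.subgroupOf N := by
      ext g
      rw [MulAction.mem_stabilizer_iff, mem_subgroupOf]
      exact CfsgLib.StrongEmbed.smul_mk_one_iff
    have hFidx : Nat.card F = (M.subgroupOf N).index := by
      rw [← hstab, MulAction.index_stabilizer, Nat.card_coe_set_eq]
    have hpF : p ∣ Nat.card F := by
      by_contra hpF
      obtain ⟨b, hb⟩ := IsPGroup.iff_card.1 (PG.2.to_le (inf_le_left : R ≤ _))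
      have hb3 : 3 ≤ b := by
        have h1 := CfsgLib.Solvable.card_lt_of_lt hlt
        rw [hb, hcard] at h1
        have := (Nat.pow_lt_pow_iff_right hp.out.one_lt).1 h1
        omega
      have hd : p ^ 3 ∣ Nat.card (M.subgroupOf N) * Nat.card F := by
        rw [hFidx, card_mul_index]
        refine dvd_trans ?_ (card_dvd_of_le (inf_le_right : R ≤ N))
        rw [hb]
        exact pow_dvd_pow p hb3
      have hd2 : p ^ 3 ∣ Nat.card M := by
        refine dvd_trans (Nat.Coprime.dvd_of_dvd_mul_right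
          ((hp.out.coprime_iff_not_dvd.2 hpF).pow_left 3) hd) ?_
        rw [show Nat.card (M.subgroupOf N) = Nat.card ↥((M ⊓ N).subgroupOf N) by rw [inf_subgroupOf_right],
          Nat.card_congr (subgroupOfEquivOfLe (inf_le_right : M ⊓ N ≤ N)).toEquiv]
        exact card_dvd_of_le inf_le_left
      have h4 := (Nat.Prime.pow_dvd_iff_le_factorization hp.out Nat.card_pos.ne').1 hd2
      have h5 : Nat.card P = p ^ (Nat.card M).factorization p := by
        rw [card_map_of_injective M.subtype_injective, Sp.card_eq_multiplicity]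
      rw [hcard] at h5
      have := Nat.pow_right_injective hp.out.two_le h5
      omega
    have h2p : 2 * p ∣ Nat.card F :=
      ((Nat.coprime_primes Nat.prime_two hp.out).2 c.p_ne_two.symm).mul_dvd_of_dvd_of_dvd hev.two_dvd hpF
    haveI : Nonempty F := ⟨⟨o, MulAction.mem_orbit_self o⟩⟩
    have := Nat.le_of_dvd Nat.card_pos h2p
    have := c.hp5
    omega
  have hPG' : ((PG : Subgroup G)) = P := hPeq.symm
  -- the normalizer of `P` lies in `M`
  have hNP : normalizer (P : Set G) ≤ M := by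
    intro n hn
    by_contra hnM
    obtain ⟨hne, hD, hcard⟩ := hpair n hn hnM
    obtain ⟨u, hu, huxy⟩ := CfsgLib.StrongEmbed.exists_swap e.se hne
    obtain ⟨-, hfree, -, -, -⟩ := c.orbit_facts e hne (hD ▸ hcard) hu huxy
    obtain ⟨v, hv, hv1, hvu⟩ := c.exists_fixed_by_swap e hne hu huxy (hD.symm ▸ ht0P) ht01 ht0C
    obtain ⟨z, hz⟩ := CfsgLib.StrongEmbed.exists_fix e.se hu
    have hvz : InC A v z := e.inC_of_commute hu hz hvu
    obtain ⟨g, rfl⟩ := QuotientGroup.mk_surjective z
    have hv' := e.inC_mk.1 hvz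
    have hvp : IsPGroup p (zpowers (⟨g⁻¹ * v * g, e.centralizer_le hv'⟩ : M)) := by
      obtain ⟨k, hk⟩ := IsPGroup.iff_orderOf.1 hPp ⟨v, hD ▸ hv⟩
      rw [orderOf_mk] at hk
      refine IsPGroup.of_card (n := k) ?_
      rw [Nat.card_zpowers, orderOf_mk,
        show g⁻¹ * v * g = g⁻¹ * v * g⁻¹⁻¹ by rw [inv_inv], CfsgLib.Invol.orderOf_conj_eq, hk]
    obtain ⟨T, hT⟩ := hvp.exists_le_sylow
    obtain ⟨m, hm⟩ := MulAction.exists_smul_eq M T Sp
    set h := (m : G) * g⁻¹ with hhdef
    have hh : h * v * h⁻¹ ∈ P := by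
      have h1 : MulAut.conj m ⟨g⁻¹ * v * g, e.centralizer_le hv'⟩ ∈ (Sp : Subgroup M) := by
        rw [← hm, Sylow.coe_subgroup_smul]
        exact smul_mem_pointwise_smul _ _ _ (hT (mem_zpowers _))
      exact ⟨_, h1, by simp [hhdef, mul_assoc]⟩
    have hhC : h * v * h⁻¹ ∈ CA := by
      have := e.conj_centralizer m.2 hv'
      simpa [hhdef, mul_assoc] using this
    have hab : (PG : Subgroup G) ≤ centralizer ((PG : Subgroup G) : Set G) := fun x hx =>
      mem_centralizer_iff.2 fun y hy => c.commute_of_pairStab e hne (hD.symm ▸ hPG' ▸ hy) (hD.symm ▸ hPG' ▸ hx)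
    obtain ⟨k, hk, hkv⟩ := CfsgLib.TransferBasic.exists_normalizer_conj (P := PG) (Z := (PG : Subgroup G))
      hab le_rfl
      (fun k hk => CfsgLib.Solvable.eq_of_le_of_card_le hk (card_map_of_injective (MulAut.conj k).injective).ge)
      ((hPG'.trans hD.symm).ge hv) (u := h) (hPG'.ge hh)
    have hin : InC A v (k⁻¹ • o) := by
      have h1 : InC A (k * v * k⁻¹) o := e.inC_one_iff.2 (hkv.symm ▸ hhC)
      have := h1.conj e k⁻¹
      rwa [show k⁻¹ * (k * v * k⁻¹) * k⁻¹⁻¹ = v by group] at this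
    have hzk := c.inC_unique e hv1 hvz hin
    refine hfree (k⁻¹ • o) ⟨⟨k⁻¹, ?_⟩, rfl⟩ (hzk ▸ hz)
    rw [hD, ← hPG']
    exact inv_mem hk
  -- so does the normalizer of `Z(J(P))`
  set Z := Cfsg.centerThompsonAOf P
  have hZP : Z ≤ P := inf_le_left.trans (map_subtype_le _)
  have hNZ : normalizer (Z : Set G) ≤ M := by
    intro n hn
    by_contra hnM
    have hne : o ≠ n • o := fun h => hnM (CfsgLib.StrongEmbed.smul_mk_one_iff.1 h.symm)
    have hle : Z ≤ pairStab o (n • o) := fun t ht => mem_pairStab.2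
      ⟨hPfix t (hZP ht), c.smul_eq_of_orbit e (fun t ht => hPfix t (hZP ht)) ⟨⟨n, hn⟩, rfl⟩ ht⟩
    -- a central element of `P` in `C(A)`
    haveI : Group.IsNilpotent P := hPp.isNilpotent
    haveI : (CA.subgroupOf P).Normal :=
      ⟨fun b hb k => mem_subgroupOf.2 (e.conj_centralizer (hPM k.2) (mem_subgroupOf.1 hb))⟩
    obtain ⟨w, ⟨hwC, hwz⟩, hw1⟩ := (bot_or_exists_ne_one (CA.subgroupOf P ⊓ center P)).resolve_left
      (CfsgLib.PGroupBasic.inf_center_ne_bot _ fun h => ht01 (by
        have h1 : (⟨t0, ht0P⟩ : P) ∈ CA.subgroupOf P := mem_subgroupOf.2 (e.inC_one_iff.1 ht0C)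
        rw [h, mem_bot] at h1
        exact congrArg Subtype.val h1))
    have hwC' : (w : G) ∈ CA := hwC
    have hw1' : (w : G) ≠ 1 := fun h => hw1 (Subtype.ext h)
    have hwZ : (w : G) ∈ Z := mem_centerThompsonAOf w.2 (mem_centralizer_iff.2 fun y hy =>
      congrArg Subtype.val (mem_center_iff.1 hwz ⟨y, hy⟩))
    have hcD := c.card_pairStab_le e hne
    obtain ⟨b, hb⟩ := IsPGroup.iff_card.1 (hPp.to_le hZP)
    have hb2 : 2 ≤ b := by
      by_contra hb2
      have hwo : orderOf (w : G) = p :=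
        c.orderOf_pairStab e hne (hle hwZ) hw1'
      have hZw : Z = zpowers (w : G) := (eq_of_le_of_card_ge (zpowers_le.2 hwZ) (by
        rw [Nat.card_zpowers, hwo, hb]
        calc p ^ b ≤ p ^ 1 := Nat.pow_le_pow_right hp.out.pos (by omega)
          _ = p := pow_one p)).symm
      have h1 : n * (w : G) * n⁻¹ ∈ zpowers (w : G) := hZw ▸ (mem_normalizer_iff.1 hn _).1 hwZ
      exact hnM (c.ti e hwC' hw1' (zpowers_le.2 hwC' h1))
    have hZc : p ^ 2 ≤ Nat.card Z := hb ▸ Nat.pow_le_pow_right hp.out.pos hb2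
    have hD : pairStab o (n • o) = Z := (eq_of_le_of_card_ge hle (hcD.trans hZc)).symm
    have hcard : Nat.card (pairStab o (n • o)) = p ^ 2 := le_antisymm hcD (hD.symm ▸ hZc)
    have hnP : ∀ z : G ⧸ M, (∀ t ∈ P, t • z = z) → z = o := by
      intro z hz
      by_contra hzo
      have hle' : P ≤ pairStab o z := fun t ht => mem_pairStab.2 ⟨hPfix t ht, hz t ht⟩
      have h1 := (card_le_of_le hle').trans (c.card_pairStab_le e (Ne.symm hzo))
      have hPZ : Z = P := eq_of_le_of_card_ge hZP (h1.trans hZc)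
      exact hnM (hNP (hPZ ▸ hn))
    obtain ⟨u, hu, huxy⟩ := CfsgLib.StrongEmbed.exists_swap e.se hne
    obtain ⟨hy, hfree, hev, hcle, hfull⟩ := c.orbit_facts e hne hcard hu huxy
    rw [hD] at hy hfree hev hcle hfull
    set N := normalizer (Z : Set G)
    set F := MulAction.orbit N o
    have hPN : P ≤ N := by
      intro g hg
      exact (CfsgLib.ZJ.zkind_centerThompsonA.{u} (p := p) c.p_ne_two).normalizer_le P (le_normalizer hg)
    letI : MulAction P F :=
      { smul := fun g z => ⟨(g : G) • (z : G ⧸ M), by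
          obtain ⟨k, hk⟩ := z.2
          exact ⟨⟨g, hPN g.2⟩ * k,
            (mul_smul (⟨g, hPN g.2⟩ : N) k o).trans (congrArg ((g : G) • ·) hk)⟩⟩
        one_smul := fun z => Subtype.ext (one_smul G (z : G ⧸ M))
        mul_smul := fun a b z => Subtype.ext (mul_smul (a : G) b (z : G ⧸ M)) }
    haveI : Subsingleton (MulAction.fixedPoints P F) := ⟨fun a b => Subtype.ext (Subtype.ext (by
      rw [hnP a.1.1 fun t ht => congrArg Subtype.val (a.2 ⟨t, ht⟩),
        hnP b.1.1 fun t ht => congrArg Subtype.val (b.2 ⟨t, ht⟩)]))⟩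
    haveI : Nonempty (MulAction.fixedPoints P F) :=
      ⟨⟨⟨o, MulAction.mem_orbit_self o⟩, fun t => Subtype.ext (hPfix t t.2)⟩⟩
    have hmod := hPp.card_modEq_card_fixedPoints F
    rw [Nat.card_unique (α := MulAction.fixedPoints P F)] at hmod
    haveI : Nonempty F := ⟨⟨o, MulAction.mem_orbit_self o⟩⟩
    have hFp : Nat.card F = p + 1 := by
      have h2 : 2 ≤ Nat.card F := Nat.le_of_dvd Nat.card_pos hev.two_dvd
      have h3 : p ∣ Nat.card F - 1 := (Nat.modEq_iff_dvd' (by omega)).1 hmod.symm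
      have h4 := Nat.le_of_dvd (by omega) h3
      omega
    obtain ⟨v, hv, hv1, hvu⟩ := c.exists_fixed_by_swap e hne hu huxy (hle hwZ) hw1' (e.inC_one_iff.2 hwC')
    obtain ⟨z, hzF, hzv⟩ := hfull hFp v (hD ▸ hv) hv1
    exact hfree z hzF (c.smul_eq_of_commute e hv1 hzv hvu.symm)
  refine c.false_of_control PG (hPG' ▸ hPM) (hPG' ▸ hNZ) CA ?_ fun h => ?_
  · intro a ha b hb
    exact c.commutator_mem_centralizer e.toEmb (e.hle ha) (e.hle hb)
  · have h1 : (Sp : Subgroup M) ≤ CA.subgroupOf M := fun y hy =>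
      mem_subgroupOf.2 (h (hPG'.symm ▸ mem_map_of_mem M.subtype hy))
    refine Sp.not_dvd_index (dvd_trans ?_ (index_dvd_of_le h1))
    rw [c.index_centralizer_M e]

end CfsgLib.PPrimeNil
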