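import Cfsg.Agent.PPrimeNil.Basic
import Cfsg.Agent.Fusion.GroupSystem
import Cfsg.Agent.Solvable.PGroupBasic
import Cfsg.Agent.CharP.StronglyClosedAbelian
import Cfsg.Agent.S5109
import Cfsg.Agent.S5089
import Cfsg.Agent.S5076
import Cfsg.Agent.S0215

/-!
A minimal counterexample has an elementary abelian subgroup of rank at least three that is strongly
closed in a Sylow `2`-subgroup.
-/

set_option autoImplicit false
set_option linter.style.haveILetI false
set_option linter.unusedSectionVars false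

namespace CfsgLib.PPrimeNil

open Subgroup

universe u

variable {G : Type u} [Group G] [Finite G] {p : ℕ} [hp : Fact p.Prime]

/-- A large elementary abelian subgroup strongly closed in the Sylow `2`-subgroup `S`. -/
structure Closed (S : Sylow 2 G) (A : Subgroup G) : Prop where
  hA : Cfsg.IsElementaryAbelian 2 A
  hsc : Cfsg.IsStronglyClosed A (S : Subgroup G)
  h8 : 2 ^ 3 ≤ Nat.card A

variable {S : Sylow 2 G} {A : Subgroup G}

/-- Conjugate elements of a strongly closed abelian subgroup are conjugate in its normalizer. -/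
theorem exists_normalizer_conj (hA : IsMulCommutative A)
    (hsc : Cfsg.IsStronglyClosed A (S : Subgroup G)) {a g : G} (ha : a ∈ A) (hg : g * a * g⁻¹ ∈ A) :
    ∃ n ∈ normalizer (A : Set G), n * a * n⁻¹ = g * a * g⁻¹ := by
  haveI : Fact (Nat.Prime 2) := ⟨Nat.prime_two⟩
  obtain ⟨T, hAT, hT⟩ := CfsgLib.StronglyClosed.controlsStrongFusion hA hsc
  obtain ⟨-, h⟩ := hT {a} (Set.singleton_subset_iff.2 (hAT ha))
  obtain ⟨n, hn, he⟩ := h g (by rw [Set.image_singleton, Set.singleton_subset_iff]; exact hAT hg)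
  exact ⟨n, hn, (he a rfl).symm⟩

variable (c : Ctx p G)
include c

theorem Ctx.sylow_ne_bot (S : Sylow 2 G) : (S : Subgroup G) ≠ ⊥ := by
  haveI : Fact (Nat.Prime 2) := ⟨Nat.prime_two⟩
  exact S.ne_bot_of_dvd_card c.two_dvd

/-- The fusion system on a Sylow `2`-subgroup has a nontrivial strongly closed abelian subgroup. -/
theorem Ctx.exists_abelian_closed (S : Sylow 2 G) :
    ∃ Q : Subgroup G, Q ≠ ⊥ ∧ IsMulCommutative Q ∧ Cfsg.IsStronglyClosed Q (S : Subgroup G) := by
  haveI : Fact (Nat.Prime 2) := ⟨Nat.prime_two⟩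
  set F := Cfsg.groupFusionSystem (S : Subgroup G)
  have hF : F.IsSaturated 2 := Cfsg.Agent.S5076.result 2 S
  obtain ⟨-, N, hN, hNc⟩ := Cfsg.Agent.S5109.result S.2 F hF fun U hU h => by
    refine c.sThree_free ?_
    rw [CfsgLib.Fusion.autGroup_groupFusion hU, CfsgLib.Fusion.autInducedBy_eq_range] at h
    exact CfsgLib.ZJ.involves_of_hom _ (CfsgLib.Fusion.conjAut ⊤ U).rangeRestrict
      (MonoidHom.rangeRestrict_surjective _) h
  have hN1 : N ≠ ⊥ := by
    intro h
    subst h
    refine c.sylow_ne_bot S (le_bot_iff.1 (le_trans (fun s hs => ?_)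
      (hNc.2 ⊥ ⟨Cfsg.conjHom ⊥ 1, F.conj_mem bot_le (one_mem _), ?_⟩)))
    · exact ⟨hs, mem_centralizer_iff.2 fun x hx => by rw [mem_bot.1 hx, one_mul, mul_one]⟩
    · rw [eq_bot_iff]
      rintro _ ⟨x, rfl⟩
      rw [Subsingleton.elim x 1, map_one]
      exact one_mem _
  have hcore : F.core ≠ ⊥ := fun h => hN1 (le_bot_iff.1 (h ▸ le_sSup hN))
  obtain ⟨Q, hQ1, hQc, hQS, hQ⟩ := (Cfsg.Agent.S5089.result 2 S.2 F hF).1 hcore
  refine ⟨Q, hQ1, hQc, hQS, fun x hx g hg => ?_⟩
  exact hQ (zpowers x) (zpowers_le.2 hx) _ (CfsgLib.Fusion.conjHom_mem_groupFusion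
    (zpowers_le.2 (hQS hx)) (g := g) fun y hy => by
      obtain ⟨k, rfl⟩ := mem_zpowers_iff.1 hy
      rw [← conj_zpow]
      exact zpow_mem hg k) ⟨x, mem_zpowers x⟩

/-- Existence of a large strongly closed elementary abelian subgroup. -/
theorem Ctx.exists_closed : ∃ (S : Sylow 2 G) (A : Subgroup G), Closed S A := by
  haveI : Fact (Nat.Prime 2) := ⟨Nat.prime_two⟩
  obtain ⟨S⟩ : Nonempty (Sylow 2 G) := inferInstance
  obtain ⟨Q, hQ1, hQc, hQsc⟩ := c.exists_abelian_closed S
  obtain ⟨A, hAQ, hA, hmax⟩ := CfsgLib.PPrimeAb.exists_omega (q := 2) hQc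
  have hsc : Cfsg.IsStronglyClosed A (S : Subgroup G) := ⟨hAQ.trans hQsc.1, fun x hx g hg =>
    hmax _ (hQsc.2 x (hAQ hx) g hg) (by rw [conj_pow, hA.2 x hx, mul_one, mul_inv_cancel])⟩
  have hA1 : A ≠ ⊥ := by
    intro h
    have hd : 2 ∣ Nat.card Q := by
      obtain ⟨k, hk⟩ := IsPGroup.iff_card.1 (S.2.to_le hQsc.1)
      refine hk ▸ dvd_pow_self 2 ?_
      rintro rfl
      exact hQ1 (card_eq_one.1 (by simpa using hk))
    obtain ⟨i, hi⟩ := exists_prime_orderOf_dvd_card' (G := Q) 2 hd
    rw [← orderOf_coe] at hi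
    have hiA : (i : G) ∈ A := hmax _ i.2 (by rw [← hi, pow_orderOf_eq_one])
    rw [h, mem_bot] at hiA
    rw [hiA, orderOf_one] at hi
    norm_num at hi
  refine ⟨S, A, hA, hsc, ?_⟩
  by_contra h8
  -- a small `A` has trivial odd automizer, hence contains an isolated central involution
  have hAp : IsPGroup 2 A := S.2.to_le hsc.1
  obtain ⟨m, hm⟩ := IsPGroup.iff_card.1 hAp
  have h4 : Nat.card A ≤ 4 := by
    rw [hm] at h8 ⊢
    have : m < 3 := (Nat.pow_lt_pow_iff_right (by norm_num : 1 < 2)).1 (not_le.1 h8)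
    calc 2 ^ m ≤ 2 ^ 2 := Nat.pow_le_pow_right (by norm_num) (by omega)
      _ = 4 := by norm_num
  have hSN : (S : Subgroup G) ≤ normalizer (A : Set G) :=
    CfsgLib.StronglyClosed.sylow_le_normalizer hsc
  haveI : Group.IsNilpotent (S : Subgroup G) := S.2.isNilpotent
  haveI : (A.subgroupOf (S : Subgroup G)).Normal := (normal_subgroupOf_iff_le_normalizer hsc.1).2 hSN
  obtain ⟨z, ⟨hzA, hzS⟩, hz1⟩ := (bot_or_exists_ne_one
    (A.subgroupOf (S : Subgroup G) ⊓ center (S : Subgroup G))).resolve_left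
      (CfsgLib.PGroupBasic.inf_center_ne_bot _ fun h => hA1 (by
        rw [← map_subgroupOf_eq_of_le hsc.1, h, Subgroup.map_bot]))
  have hzA' : (z : G) ∈ A := hzA
  have hz1' : (z : G) ≠ 1 := fun h => hz1 (Subtype.ext h)
  have hzo : orderOf (z : G) = 2 := orderOf_eq_prime (hA.2 _ hzA') hz1'
  -- every element of `N(A)` of odd order centralizes `A`
  have hodd : ∀ g ∈ normalizer (A : Set G), Odd (orderOf g) → g ∈ centralizer (A : Set G) := by
    intro g hg hgo
    obtain ⟨k, l, hl, hn⟩ := Nat.exists_eq_pow_mul_and_not_dvd (orderOf_pos g).ne' p hp.out.ne_one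
    have hl0 : l ≠ 0 := fun h => hl (h ▸ dvd_zero p)
    have h1 : g ^ p ^ k ∈ centralizer (A : Set G) := by
      have ho : orderOf (g ^ p ^ k) = l := by
        rw [orderOf_pow, hn, Nat.gcd_eq_right (dvd_mul_right _ _),
          Nat.mul_div_cancel_left _ (pow_pos hp.out.pos k)]
      refine c.hyp.centralizes_two c.p_ne_two hAp (pow_mem hg _) ?_ ?_
      · rw [ho]
        exact (Nat.odd_mul.1 (hn ▸ hgo)).2
      · rw [ho]
        exact (hp.out.coprime_iff_not_dvd.2 hl).symm
    have h2 : g ^ l ∈ centralizer (A : Set G) := by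
      -- a `p`-element permuting at most three points fixes them
      set x := g ^ l
      have hx : x ∈ normalizer (A : Set G) := pow_mem hg _
      have hxo : orderOf x = p ^ k := by
        rw [orderOf_pow, hn, Nat.gcd_eq_right (dvd_mul_left _ _),
          Nat.mul_div_cancel _ (Nat.pos_of_ne_zero hl0)]
      let σ : Equiv.Perm A :=
        Equiv.Perm.subtypePerm (MulAut.conj x).toEquiv fun w => (mem_normalizer_iff.1 hx w).symm
      have hσp : σ ^ p ^ k = 1 := by
        refine Equiv.ext fun y => Subtype.ext ?_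
        have key : ∀ j : ℕ, ((σ ^ j) y : G) = x ^ j * y * (x ^ j)⁻¹ := by
          intro j
          induction j with
          | zero => simp
          | succ j ih =>
            rw [pow_succ', Equiv.Perm.mul_apply]
            show x * ((σ ^ j) y : G) * x⁻¹ = _
            rw [ih, pow_succ']
            group
        rw [key, ← hxo, pow_orderOf_eq_one]
        simp
      have hσ1 : σ = 1 := by
        refine orderOf_eq_one_iff.1 (Nat.eq_one_of_dvd_coprimes ?_ (orderOf_dvd_of_pow_eq_one hσp)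
          (_root_.orderOf_dvd_natCard σ))
        rw [Nat.card_perm]
        refine (hp.out.coprime_iff_not_dvd.2 fun h => ?_).pow_left k
        have := (hp.out.dvd_factorial).1 h
        have := c.hp5
        omega
      exact mem_centralizer_iff.2 fun w hw => by
        have : x * w * x⁻¹ = w := congrArg (fun τ : Equiv.Perm A => ((τ ⟨w, hw⟩ : A) : G)) hσ1
        exact (mul_inv_eq_iff_eq_mul.1 this).symm
    exact CfsgLib.PPrimeAb.mem_of_pow_mem ((hp.out.coprime_iff_not_dvd.2 hl).pow_left k) h1 h2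
  -- hence `z` is weakly closed in `S`
  have hiso : ∀ g : G, g * z * g⁻¹ ∈ (S : Subgroup G) → g * z * g⁻¹ = z := by
    intro g hg
    obtain ⟨n, hn, hne⟩ := exists_normalizer_conj hA.1 hsc hzA' (hsc.2 _ hzA' g hg)
    rw [← hne]
    set St := (centralizer ({(z : G)} : Set G)).subgroupOf (normalizer (A : Set G))
    suffices hn' : (⟨n, hn⟩ : normalizer (A : Set G)) ∈ St by
      rw [mem_centralizer_singleton_iff.1 (mem_subgroupOf.1 hn'), mul_inv_cancel_right]
    suffices hSt : St = ⊤ from hSt ▸ mem_top _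
    rw [← index_eq_one]
    by_contra hne1
    obtain ⟨r, hr, hrd⟩ := Nat.exists_prime_and_dvd hne1
    haveI := Fact.mk hr
    obtain ⟨R⟩ : Nonempty (Sylow r (normalizer (A : Set G))) := inferInstance
    have hRSt : (R : Subgroup (normalizer (A : Set G))) ≤ St → False := fun hle =>
      R.not_dvd_index (hrd.trans (index_dvd_of_le hle))
    rcases eq_or_ne r 2 with rfl | hr2
    · have hle : (S : Subgroup G).subgroupOf (normalizer (A : Set G)) ≤ St := fun s hs => by
        have := mem_center_iff.1 hzS ⟨s, hs⟩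
        exact mem_subgroupOf.2 (mem_centralizer_singleton_iff.2 (congrArg Subtype.val this))
      have hd := (hrd.trans (index_dvd_of_le hle)).trans
        (dvd_of_eq (rfl : ((S : Subgroup G).subgroupOf (normalizer (A : Set G))).index =
          (S : Subgroup G).relIndex (normalizer (A : Set G))))
      exact S.not_dvd_index (hd.trans (relIndex_dvd_index_of_le hSN))
    · refine hRSt fun x hx => ?_
      obtain ⟨j, hj⟩ := IsPGroup.iff_orderOf.1 R.2 ⟨x, hx⟩
      rw [orderOf_mk, ← orderOf_coe] at hj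
      have := hodd x x.2 (hj ▸ (hr.odd_of_ne_two hr2).pow)
      exact mem_subgroupOf.2 (mem_centralizer_singleton_iff.2
        (mem_centralizer_iff.1 this z hzA').symm)
  obtain ⟨N, hN, hNodd, hcomm⟩ := Cfsg.Agent.S0215.result S z hzo (hsc.1 hzA') hiso
  rcases c.eq_bot_or_eq_top hN with rfl | rfl
  · refine c.centralizer_ne_top hz1' (eq_top_iff.2 fun g _ => mem_centralizer_singleton_iff.2 ?_)
    have h := mem_bot.1 (hcomm g)
    calc g * (z : G) = ((z : G) * g * (z : G)⁻¹ * g⁻¹) * (g * z) := by rw [h, one_mul]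
      _ = z * g := by group
  · rw [card_top, Nat.odd_iff] at hNodd
    have := c.two_dvd
    omega

end CfsgLib.PPrimeNil
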