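import Cfsg.Agent.PPrimeNil.Local
import Cfsg.Agent.Invol.StrongEmbedded
import Cfsg.Agent.Invol.CoreOddEmbedded
import Cfsg.Agent.PPrimeAbelian.EvenB
import Mathlib.Data.Nat.Factorial.Basic

/-!
The maximal subgroup is strongly embedded, and the automizer of the strongly closed subgroup is cyclic
of prime order `p`, permuting the `p` involutions regularly.
-/

set_option autoImplicit false
set_option linter.style.haveILetI false
set_option linter.unusedSectionVars false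

namespace CfsgLib.PPrimeNil

open Subgroup
open scoped commutatorElement

universe u

theorem exponent_eq_one {p a m : ℕ} (hp : p.Prime) (hp2 : p ≠ 2) (hm3 : 3 ≤ m)
    (hidx : p ^ a + 1 = 2 ^ m) : a = 1 := by
  have hodd : p % 2 = 1 := hp.eq_two_or_odd.resolve_left hp2
  have hsq : ∀ b : ℕ, p ^ (2 * b) % 4 = 1 := fun b => by
    have h4 : p % 4 = 1 ∨ p % 4 = 3 := by omega
    have : p ^ 2 % 4 = 1 := by rcases h4 with h | h <;> rw [Nat.pow_mod, h]
    rw [pow_mul, Nat.pow_mod, this, one_pow, Nat.one_mod_eq_one.2 (by norm_num)]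
  have h2m : 4 ∣ 2 ^ m :=
    ⟨2 ^ (m - 2), by rw [show (4 : ℕ) = 2 ^ 2 by norm_num, ← pow_add]; congr 1; omega⟩
  rcases Nat.even_or_odd' a with ⟨b, rfl | rfl⟩
  · have := hsq b
    omega
  have hdvd : (p + 1) ∣ 2 ^ m := by
    rw [← hidx]
    exact (Odd.nat_add_dvd_pow_add_pow p 1 ⟨b, rfl⟩).trans (by rw [one_pow])
  obtain ⟨i, -, hi⟩ := (Nat.dvd_prime_pow Nat.prime_two).1 hdvd
  have hi1 : 1 ≤ i := by
    rcases i with _ | i
    · have := hp.two_le
      omega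
    · omega
  have hsq2 : p ^ 2 % 2 ^ (i + 1) = 1 := by
    have h2i : 2 ^ (i + 1) = 2 * 2 ^ i := by ring
    have hp1 : p = 2 ^ i - 1 := by omega
    have h2i1 : 2 ≤ 2 ^ i := Nat.le_self_pow (by omega) 2
    have hdv : 2 ^ (i + 1) ∣ 2 ^ i * 2 ^ i := by
      rw [← pow_add]; exact pow_dvd_pow 2 (by omega)
    obtain ⟨t, ht⟩ := hdv
    have hexp : p ^ 2 + 2 * 2 ^ i = 2 ^ i * 2 ^ i + 1 := by
      obtain ⟨r, hr⟩ : ∃ r, 2 ^ i = r + 1 := ⟨2 ^ i - 1, by omega⟩
      rw [hp1, hr, Nat.add_sub_cancel]; ring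
    rw [ht, ← h2i] at hexp
    have h3 : (p ^ 2 + 2 ^ (i + 1)) % 2 ^ (i + 1) = (2 ^ (i + 1) * t + 1) % 2 ^ (i + 1) := by rw [hexp]
    rw [Nat.add_mod_right, Nat.mul_add_mod, Nat.mod_eq_of_lt (Nat.one_lt_pow (by omega) (by norm_num))] at h3
    exact h3
  have hmod : (p ^ (2 * b + 1) + 1) % 2 ^ (i + 1) = 2 ^ i % 2 ^ (i + 1) := by
    rw [← hi, pow_succ, pow_mul, Nat.add_mod, Nat.mul_mod, Nat.pow_mod, hsq2, one_pow]
    simp [Nat.add_mod]
  rw [hidx] at hmod
  have hmi : m ≤ i := by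
    by_contra h
    rw [Nat.mod_eq_zero_of_dvd (pow_dvd_pow 2 (by omega : i + 1 ≤ m)),
      Nat.mod_eq_of_lt (Nat.pow_lt_pow_right (by norm_num) (by omega))] at hmod
    exact (pow_pos (by norm_num : 0 < 2) i).ne hmod
  have hle : 2 ^ m ≤ 2 ^ i := Nat.pow_le_pow_right (by norm_num) hmi
  have : p ^ (2 * b + 1) ≤ p ^ 1 := by rw [pow_one]; omega
  have := (Nat.pow_le_pow_iff_right hp.one_lt).1 this
  omega

variable {G : Type u} [Group G] [Finite G] {p : ℕ} [hp : Fact p.Prime]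

/-- The strongly embedded situation. -/
structure Emb (p : ℕ) (S : Sylow 2 G) (A M : Subgroup G) : Prop extends Loc S A M where
  se : Cfsg.IsStronglyEmbedded M
  hmax : ∀ s ∈ (S : Subgroup G), orderOf s = 2 → s ∈ A
  invC : ∀ i ∈ M, orderOf i = 2 → centralizer ({i} : Set G) ≤ M
  card_eq : Nat.card A = p + 1
  trans : ∀ v ∈ A, v ≠ 1 → ∀ w ∈ A, w ≠ 1 → ∃ n ∈ normalizer (A : Set G), n * v * n⁻¹ = w
  stab : ∀ v ∈ A, v ≠ 1 → ∀ n ∈ normalizer (A : Set G), n * v * n⁻¹ = v → n ∈ centralizer (A : Set G)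
  sylow_cent : (S : Subgroup G) ≤ centralizer (A : Set G)
  decomp : M ≤ CfsgLib.PPrimeAb.core 2 M ⊔ normalizer (A : Set G)

variable {S : Sylow 2 G} {A M : Subgroup G}

/-- An automorphism of order at most two fixes a four-group of `A`. -/
theorem Closed.four_fixed (e : Closed S A) {g : G} (hg : g ∈ normalizer (A : Set G))
    (hg2 : g * g ∈ centralizer (A : Set G)) :
    2 ^ 2 ≤ Nat.card ↥(A ⊓ centralizer ({g} : Set G)) := by
  haveI := e.hA.1
  have hc : ∀ a ∈ A, g * a * g⁻¹ ∈ A := fun a ha => (mem_normalizer_iff.1 hg a).1 ha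
  have hgg : ∀ a ∈ A, g * (g * a * g⁻¹) * g⁻¹ = a := fun a ha => by
    calc g * (g * a * g⁻¹) * g⁻¹ = (g * g) * a * (g * g)⁻¹ := by group
      _ = a := by rw [← mem_centralizer_iff.1 hg2 a ha, mul_inv_cancel_right]
  have hcc : ∀ {x y : G}, x ∈ A → y ∈ A → x * y = y * x := fun hx hy => setLike_mul_comm hx hy
  let φ : A →* ↥(A ⊓ centralizer ({g} : Set G)) := MonoidHom.mk'
    (fun a => ⟨(a : G) * (g * a * g⁻¹), mul_mem a.2 (hc a a.2), mem_centralizer_singleton_iff.2 (by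
      refine (mul_inv_eq_iff_eq_mul.1 ?_).symm
      calc g * ((a : G) * (g * a * g⁻¹)) * g⁻¹ = (g * a * g⁻¹) * (g * (g * a * g⁻¹) * g⁻¹) := by group
        _ = (a : G) * (g * a * g⁻¹) := by rw [hgg a a.2, hcc (hc a a.2) a.2])⟩)
    (fun a b => Subtype.ext (by
      show (a : G) * b * (g * ((a : G) * b) * g⁻¹) = (a : G) * (g * a * g⁻¹) * ((b : G) * (g * b * g⁻¹))
      calc (a : G) * b * (g * ((a : G) * b) * g⁻¹)
          = (a : G) * ((b : G) * (g * a * g⁻¹)) * (g * b * g⁻¹) := by group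
        _ = (a : G) * ((g * a * g⁻¹) * b) * (g * b * g⁻¹) := by rw [hcc b.2 (hc a a.2)]
        _ = _ := by group))
  have hker : Nat.card φ.ker ≤ Nat.card ↥(A ⊓ centralizer ({g} : Set G)) := by
    refine Nat.card_le_card_of_injective (fun a => ⟨((a : A) : G), (a : A).2,
      mem_centralizer_singleton_iff.2 ?_⟩) fun a b h => Subtype.ext (Subtype.ext (congrArg Subtype.val h :))
    have h1 : ((a : A) : G) * (g * (a : A) * g⁻¹) = 1 := congrArg Subtype.val a.2
    have h2 : g * ((a : A) : G) * g⁻¹ = (a : A) :=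
      mul_left_cancel (h1.trans (by rw [← pow_two, e.hA.2 _ (a : A).2]))
    exact (mul_inv_eq_iff_eq_mul.1 h2).symm
  have hr : Nat.card φ.range ≤ Nat.card ↥(A ⊓ centralizer ({g} : Set G)) :=
    Nat.card_le_card_of_injective _ φ.range.subtype_injective
  have hmul : Nat.card φ.range * Nat.card φ.ker = Nat.card A := by
    rw [← index_ker φ, mul_comm, card_mul_index]
  have h8 := e.h8
  haveI : Fact (Nat.Prime 2) := ⟨Nat.prime_two⟩
  obtain ⟨k, hk⟩ := IsPGroup.iff_card.1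
    ((CfsgLib.Signalizer.isPGroup e.hA).to_le (inf_le_left : A ⊓ centralizer ({g} : Set G) ≤ A))
  rw [hk] at hker hr ⊢
  refine Nat.pow_le_pow_right (by norm_num) ?_
  by_contra h
  have : 2 ^ k ≤ 2 := le_trans (Nat.pow_le_pow_right (by norm_num) (show k ≤ 1 by omega)) (by norm_num)
  have := Nat.mul_le_mul (hr.trans this) (hker.trans this)
  omega

/-- A `p`-element fixing one of the `p` involutions fixes all of them. -/
theorem Closed.pElement_fix (e : Closed S A) (hA : Nat.card A = p + 1) {x v : G}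
    (hx : x ∈ normalizer (A : Set G)) {k : ℕ} (hxo : orderOf x = p ^ k) (hv : v ∈ A) (hv1 : v ≠ 1)
    (hxv : x * v * x⁻¹ = v) : x ∈ centralizer (A : Set G) := by
  classical
  refine mem_centralizer_iff.2 fun w hw => ?_
  rcases eq_or_ne w 1 with rfl | hw1
  · simp
  rcases eq_or_ne w v with rfl | hwv
  · exact (mul_inv_eq_iff_eq_mul.1 hxv).symm
  let σ : Equiv.Perm {w : G // w ∈ (A : Set G) ∧ w ≠ 1 ∧ w ≠ v} :=
    Equiv.Perm.subtypePerm (MulAut.conj x).toEquiv fun w => by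
      show x * w * x⁻¹ ∈ (A : Set G) ∧ x * w * x⁻¹ ≠ 1 ∧ x * w * x⁻¹ ≠ v ↔ _
      refine and_congr (mem_normalizer_iff.1 hx w).symm (and_congr ?_ ?_)
      · exact not_congr conj_eq_one_iff
      · refine not_congr ⟨fun h => ?_, fun h => by rw [h, hxv]⟩
        exact mul_left_cancel (mul_right_cancel (h.trans hxv.symm))
  have hσp : σ ^ p ^ k = 1 := by
    refine Equiv.ext fun y => Subtype.ext ?_
    have key : ∀ j : ℕ, ((σ ^ j) y : G) = x ^ j * y * (x ^ j)⁻¹ := by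
      intro j
      induction j with
      | zero => simp
      | succ j ih =>
        rw [pow_succ', Equiv.Perm.mul_apply]
        show x * ((σ ^ j) y : G) * x⁻¹ = _
        rw [ih, pow_succ']
        group
    rw [key, ← hxo, pow_orderOf_eq_one]
    simp
  have hcard : Nat.card {w : G // w ∈ (A : Set G) ∧ w ≠ 1 ∧ w ≠ v} < p := by
    have h1 : ({w : G | w ∈ (A : Set G) ∧ w ≠ 1 ∧ w ≠ v}).ncard < ((A : Set G) \ {1}).ncard :=
      Set.ncard_lt_ncard ⟨fun y hy => ⟨hy.1, hy.2.1⟩, fun h => (h ⟨hv, hv1⟩).2.2 rfl⟩ (Set.toFinite _)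
    have h2 := Set.ncard_sdiff_singleton_add_one (one_mem A) (Set.toFinite (A : Set G))
    rw [← Nat.card_coe_set_eq, ← Nat.card_coe_set_eq] at h1
    rw [← Nat.card_coe_set_eq, ← Nat.card_coe_set_eq] at h2
    have : Nat.card (A : Set G) = Nat.card A := rfl
    show Nat.card ({w : G | w ∈ (A : Set G) ∧ w ≠ 1 ∧ w ≠ v} : Set G) < p
    omega
  have hσ1 : σ = 1 := by
    refine orderOf_eq_one_iff.1 (Nat.eq_one_of_dvd_coprimes ?_ (orderOf_dvd_of_pow_eq_one hσp)
      (_root_.orderOf_dvd_natCard σ))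
    rw [Nat.card_perm]
    refine (hp.out.coprime_iff_not_dvd.2 fun h => ?_).pow_left k
    exact absurd ((hp.out.dvd_factorial).1 h) (not_le.2 hcard)
  have h : x * w * x⁻¹ = w := congrArg
    (fun τ : Equiv.Perm _ => ((τ ⟨w, hw, hw1, hwv⟩ : {w : G // w ∈ (A : Set G) ∧ w ≠ 1 ∧ w ≠ v}) : G)) hσ1
  exact (mul_inv_eq_iff_eq_mul.1 h).symm

theorem card_sharp (A : Subgroup G) : Nat.card ↥((A : Set G) \ {1}) + 1 = Nat.card A := by
  have h := Set.ncard_sdiff_singleton_add_one (one_mem A) (Set.toFinite (A : Set G))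
  rw [← Nat.card_coe_set_eq, ← Nat.card_coe_set_eq] at h
  exact h

theorem centralizer_normal_in_normalizer {A : Subgroup G} {n b : G} (hn : n ∈ normalizer (A : Set G))
    (hb : b ∈ centralizer (A : Set G)) : n * b * n⁻¹ ∈ centralizer (A : Set G) := by
  refine mem_centralizer_iff.2 fun x hx => ?_
  have hx' : n⁻¹ * x * n ∈ A := by simpa using (mem_normalizer_iff.1 (inv_mem hn) x).1 hx
  calc x * (n * b * n⁻¹) = n * (n⁻¹ * x * n * b) * n⁻¹ := by group
    _ = n * (b * (n⁻¹ * x * n)) * n⁻¹ := by rw [mem_centralizer_iff.1 hb _ hx']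
    _ = n * b * n⁻¹ * x := by group

variable (c : Ctx p G)
include c

theorem Ctx.invC (e : Loc S A M) {i : G} (hi : i ∈ M) (hio : orderOf i = 2) :
    centralizer ({i} : Set G) ≤ M := by
  haveI : Fact (Nat.Prime 2) := ⟨Nat.prime_two⟩
  obtain ⟨T, hT⟩ := (IsPGroup.of_card (n := 1) (by rw [Nat.card_zpowers, orderOf_mk, hio, pow_one]) :
    IsPGroup 2 (zpowers (⟨i, hi⟩ : M))).exists_le_sylow
  obtain ⟨m, hm⟩ := MulAction.exists_smul_eq M T (S.subtype e.sylow_le)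
  set s := (m : G) * i * (m : G)⁻¹
  have hs : s ∈ (S : Subgroup G) := by
    have h : MulAut.conj m ⟨i, hi⟩ ∈ ((S.subtype e.sylow_le : Sylow 2 M) : Subgroup M) := by
      rw [← hm, Sylow.coe_subgroup_smul]
      exact smul_mem_pointwise_smul _ _ _ (hT (mem_zpowers _))
    exact h
  have ho : orderOf s = 2 := by rw [CfsgLib.Invol.orderOf_conj_eq, hio]
  have hCs : centralizer ({s} : Set G) ≤ M := by
    refine c.le_of_four e (c.centralizer_ne_top (CfsgLib.Invol.ne_one ho))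
      (inf_le_right : A ⊓ centralizer ({s} : Set G) ≤ _) inf_le_left
      (e.toClosed.four_fixed (e.toClosed.sylow_le_normalizer hs) ?_)
    rw [CfsgLib.Invol.mul_self_eq_one ho]
    exact one_mem _
  intro x hx
  have hx' : (m : G) * x * (m : G)⁻¹ ∈ centralizer ({s} : Set G) := by
    rw [mem_centralizer_singleton_iff]
    calc (m : G) * x * (m : G)⁻¹ * ((m : G) * i * (m : G)⁻¹) = (m : G) * (x * i) * (m : G)⁻¹ := by group
      _ = (m : G) * (i * x) * (m : G)⁻¹ := by rw [mem_centralizer_singleton_iff.1 hx]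
      _ = s * ((m : G) * x * (m : G)⁻¹) := by simp [s, mul_assoc]
  simpa [mul_assoc] using mul_mem (mul_mem (inv_mem m.2) (hCs hx')) m.2

theorem Ctx.stronglyEmbedded (e : Loc S A M) : Cfsg.IsStronglyEmbedded M := by
  haveI : Fact (Nat.Prime 2) := ⟨Nat.prime_two⟩
  refine CfsgLib.CoreOdd.stronglyEmbedded ?_ (fun i hi ho => c.invC e hi ho) ?_ (S.subtype e.sylow_le) ?_
  · refine even_iff_two_dvd.2 (dvd_trans ?_ (card_dvd_of_le e.sylow_le))
    rw [S.card_eq_multiplicity]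
    exact dvd_pow_self 2 (Nat.prime_two.factorization_pos_of_dvd Nat.card_pos.ne' c.two_dvd).ne'
  · rw [c.normalCore_eq_bot e.hM.1, card_bot]
    exact odd_one
  · rw [Sylow.coe_subtype, map_subgroupOf_eq_of_le e.sylow_le]
    refine le_trans (fun g hg => mem_normalizer_iff_map_conj_eq.2 (CfsgLib.Solvable.eq_of_le_of_card_le (by
      rintro _ ⟨a, ha, rfl⟩
      exact e.hsc.2 a ha g ((mem_normalizer_iff.1 hg a).1 (e.hsc.1 ha)))
      (card_map_of_injective (MulAut.conj g).injective).ge)) e.hNA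

/-- Existence of the strongly embedded situation. -/
theorem Ctx.exists_emb : ∃ (S : Sylow 2 G) (A M : Subgroup G), Emb p S A M := by
  classical
  haveI : Fact (Nat.Prime 2) := ⟨Nat.prime_two⟩
  obtain ⟨S, A, M, e⟩ := c.exists_loc
  have hse := c.stronglyEmbedded e
  have hA2 := CfsgLib.Signalizer.isPGroup e.hA
  obtain ⟨v₀, hv₀, hv₀1⟩ := e.toClosed.exists_mem
  have hmax : ∀ s ∈ (S : Subgroup G), orderOf s = 2 → s ∈ A := fun s hs ho => by
    obtain ⟨g, rfl⟩ := isConj_iff.1 (CfsgLib.StrongEmbed.isConj_of_invols hse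
      (e.toClosed.orderOf_eq hv₀ hv₀1) ho)
    exact e.hsc.2 v₀ hv₀ g hs
  have htr : ∀ v ∈ A, v ≠ 1 → ∀ w ∈ A, w ≠ 1 → ∃ n ∈ normalizer (A : Set G), n * v * n⁻¹ = w := by
    intro v hv hv1 w hw hw1
    obtain ⟨g, rfl⟩ := isConj_iff.1 (CfsgLib.StrongEmbed.isConj_of_invols hse
      (e.toClosed.orderOf_eq hv hv1) (e.toClosed.orderOf_eq hw hw1))
    exact exists_normalizer_conj e.hA.1 e.hsc hv hw
  set NA := normalizer (A : Set G) with hNAdef
  set CA := centralizer (A : Set G) with hCAdef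
  haveI hNsol : Group.IsSolvable NA :=
    c.solvable (c.normalizer_ne_top_of_isPGroup hA2 e.toClosed.ne_bot)
  -- odd elements of order prime to `p`
  have hodd : ∀ x ∈ NA, ∀ r : ℕ, r.Prime → r ≠ 2 → r ≠ p → ∀ j : ℕ, orderOf x = r ^ j → x ∈ CA := by
    intro x hx r hr hr2 hrp j hj
    exact c.hyp.centralizes_two c.p_ne_two hA2 hx (hj ▸ (hr.odd_of_ne_two hr2).pow)
      (hj ▸ ((Nat.coprime_primes hr hp.out).2 hrp).pow_left j)
  set St := (centralizer ({v₀} : Set G)).subgroupOf NA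
  have hSt : St.index = Nat.card ↥((A : Set G) \ {1}) :=
    CfsgLib.PPrimeAb.index_of_transitive
      (fun n hn => ⟨(mem_normalizer_iff.1 hn _).1 hv₀, fun h => hv₀1 (conj_eq_one_iff.1 h)⟩)
      fun w hw => htr v₀ hv₀ hv₀1 w hw.1 hw.2
  have hcard := card_sharp A
  obtain ⟨m, hm⟩ := IsPGroup.iff_card.1 hA2
  have hm3 : 3 ≤ m := (Nat.pow_le_pow_iff_right (by norm_num)).1 (hm ▸ e.h8)
  have hidx0 : St.index ≠ 0 := index_ne_zero_of_finite
  have honly : ∀ r : ℕ, r.Prime → r ∣ St.index → r = p := by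
    intro r hr hrd
    by_contra hrp
    haveI := Fact.mk hr
    have hr2 : r ≠ 2 := by
      rintro rfl
      have h2 : 2 ∣ Nat.card A := hm ▸ dvd_pow_self 2 (by omega)
      rw [hSt] at hrd
      omega
    obtain ⟨R⟩ : Nonempty (Sylow r NA) := inferInstance
    refine R.not_dvd_index (hrd.trans (index_dvd_of_le fun x hx => ?_))
    obtain ⟨j, hj⟩ := IsPGroup.iff_orderOf.1 R.2 ⟨x, hx⟩
    rw [orderOf_mk, ← orderOf_coe] at hj
    exact mem_subgroupOf.2 (mem_centralizer_singleton_iff.2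
      (mem_centralizer_iff.1 (hodd x x.2 r hr hr2 hrp j hj) v₀ hv₀).symm)
  obtain ⟨a, ha⟩ : ∃ a, St.index = p ^ a :=
    ⟨_, Nat.eq_prime_pow_of_unique_prime_dvd hidx0 fun {d} hd hdd => honly d hd hdd⟩
  have hcardA : Nat.card A = p + 1 := by
    have h1 : p ^ a + 1 = 2 ^ m := by rw [← ha, hSt, hcard, hm]
    rw [exponent_eq_one hp.out c.p_ne_two hm3 h1, pow_one] at h1
    rw [hm, h1]
  have hSh : Nat.card ↥((A : Set G) \ {1}) = p := by omega
  -- an abelian normal section, regular on the involutions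
  have hCn : ∀ n ∈ NA, ∀ b ∈ CA, n * b * n⁻¹ ∈ CA := fun n hn b hb =>
    centralizer_normal_in_normalizer hn hb
  haveI : (CA.subgroupOf NA).Normal := ⟨fun b hb n => mem_subgroupOf.2 (by
    simpa using hCn n n.2 b (mem_subgroupOf.1 hb))⟩
  haveI : Group.IsSolvable (NA ⧸ CA.subgroupOf NA) :=
    Group.isSolvable_of_surjective (QuotientGroup.mk'_surjective _)
  have hCA_ne : (⊤ : Subgroup (NA ⧸ CA.subgroupOf NA)) ≠ ⊥ := by
    intro h
    have h2 : CA.subgroupOf NA = ⊤ := eq_top_iff.2 fun x _ =>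
      (QuotientGroup.eq_one_iff x).1 (mem_bot.1 (h ▸ mem_top _))
    have h3 : St = ⊤ := eq_top_iff.2 fun x _ => mem_subgroupOf.2 (mem_centralizer_singleton_iff.2
      (mem_centralizer_iff.1 (mem_subgroupOf.1 (h2 ▸ mem_top x : x ∈ CA.subgroupOf NA)) v₀ hv₀).symm)
    rw [h3, index_top] at hSt
    have := c.hp5
    omega
  obtain ⟨B0, -, hB0n, hB01, hB0ab⟩ : ∃ B0 : Subgroup (NA ⧸ CA.subgroupOf NA),
      B0 ≤ ⊤ ∧ B0.Normal ∧ B0 ≠ ⊥ ∧ IsMulCommutative B0 := by
    obtain ⟨K, hKn, hK1, -, hKc, -, -⟩ := CfsgLib.Solvable.exists_normal_elementary_le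
      (N := (⊤ : Subgroup (NA ⧸ CA.subgroupOf NA))) hCA_ne inferInstance
    exact ⟨K, le_top, hKn, hK1, hKc⟩
  set B := B0.comap (QuotientGroup.mk' (CA.subgroupOf NA))
  haveI : B.Normal := hB0n.comap _
  have hBcomm : ∀ b ∈ B, ∀ b' ∈ B, ∃ z ∈ CA, (b : G) * b' = z * (b' * b) := by
    intro b hb b' hb'
    have h := setLike_mul_comm (s := B0) hb hb'
    rw [← map_mul, ← map_mul] at h
    have h2 : (b * b') * (b' * b)⁻¹ ∈ CA.subgroupOf NA := by
      rw [← QuotientGroup.eq_one_iff, ← QuotientGroup.mk'_apply, map_mul, map_inv, h, mul_inv_cancel]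
    exact ⟨_, mem_subgroupOf.1 h2, by simp [mul_assoc]⟩
  have hCB : ∀ x : NA, (x : G) ∈ CA → x ∈ B := fun x hx => by
    show QuotientGroup.mk' (CA.subgroupOf NA) x ∈ B0
    rw [show QuotientGroup.mk' (CA.subgroupOf NA) x = 1 from (QuotientGroup.eq_one_iff x).2 hx]
    exact one_mem _
  -- `B` does not fix `v₀`
  obtain ⟨b₁, hb₁, hb₁v⟩ : ∃ b ∈ B, (b : G) * v₀ * (b : G)⁻¹ ≠ v₀ := by
    by_contra hno
    push Not at hno
    apply hB01
    rw [eq_bot_iff]
    intro y hy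
    obtain ⟨b, rfl⟩ := QuotientGroup.mk'_surjective (CA.subgroupOf NA) y
    refine mem_bot.2 ((QuotientGroup.eq_one_iff b).2 (mem_subgroupOf.2 (mem_centralizer_iff.2 fun w hw => ?_)))
    rcases eq_or_ne w 1 with rfl | hw1
    · simp
    obtain ⟨n, hn, rfl⟩ := htr v₀ hv₀ hv₀1 w hw hw1
    have h2 := hno ((⟨n, hn⟩ : NA)⁻¹ * b * (⟨n, hn⟩ : NA)⁻¹⁻¹) ((inferInstance : B.Normal).conj_mem b hy _)
    refine (mul_inv_eq_iff_eq_mul.1 ?_).symm
    calc (b : G) * (n * v₀ * n⁻¹) * (b : G)⁻¹ = n * ((n⁻¹ * b * n) * v₀ * (n⁻¹ * b * n)⁻¹) * n⁻¹ := by group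
      _ = n * v₀ * n⁻¹ := by
        rw [show n⁻¹ * (b : G) * n * v₀ * (n⁻¹ * b * n)⁻¹ = v₀ by simpa [mul_assoc] using h2]
  have hsup : B ⊔ St = ⊤ := by
    have hlt : St < B ⊔ St := lt_of_le_of_ne le_sup_right fun h =>
      hb₁v (by
        have := mem_centralizer_singleton_iff.1 (mem_subgroupOf.1 (h.symm ▸ mem_sup_left hb₁ : b₁ ∈ St))
        rw [this, mul_inv_cancel_right])
    have hd := index_dvd_of_le hlt.le
    rw [hSt, hSh] at hd
    rcases (Nat.dvd_prime hp.out).1 hd with h | h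
    · exact index_eq_one.1 h
    · refine absurd (CfsgLib.Solvable.eq_of_le_of_card_le hlt.le ?_) hlt.ne
      have e1 := St.card_mul_index
      have e2 := (B ⊔ St).card_mul_index
      rw [h] at e2
      rw [hSt, hSh] at e1
      exact (Nat.eq_of_mul_eq_mul_right hp.out.pos (e1.trans e2.symm)).ge
  have hBtr : ∀ w ∈ A, w ≠ 1 → ∃ b ∈ B, (b : G) * v₀ * (b : G)⁻¹ = w := by
    intro w hw hw1
    obtain ⟨n, hn, rfl⟩ := htr v₀ hv₀ hv₀1 w hw hw1
    obtain ⟨b, hb, s, hs, hbs⟩ := mem_sup_of_normal_left.1 (hsup ▸ mem_top (⟨n, hn⟩ : NA))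
    refine ⟨b, hb, ?_⟩
    have e1 : (b : G) * s = n := congrArg Subtype.val hbs
    have e2 : (s : G) * v₀ * (s : G)⁻¹ = v₀ := by
      rw [mem_centralizer_singleton_iff.1 (mem_subgroupOf.1 hs), mul_inv_cancel_right]
    calc (b : G) * v₀ * (b : G)⁻¹ = (b : G) * ((s : G) * v₀ * (s : G)⁻¹) * (b : G)⁻¹ := by rw [e2]
      _ = n * v₀ * n⁻¹ := by rw [← e1]; group
  -- `B` is regular
  have hreg : ∀ b ∈ B, (b : G) * v₀ * (b : G)⁻¹ = v₀ → (b : G) ∈ CA := by
    intro b hb hbv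
    refine mem_centralizer_iff.2 fun w hw => ?_
    rcases eq_or_ne w 1 with rfl | hw1
    · simp
    obtain ⟨b', hb', rfl⟩ := hBtr w hw hw1
    obtain ⟨z, hz, hzb⟩ := hBcomm b hb b' hb'
    have hw' : (b' : G) * v₀ * (b' : G)⁻¹ ∈ A := (mem_normalizer_iff.1 b'.2 _).1 hv₀
    refine (mul_inv_eq_iff_eq_mul.1 ?_).symm
    calc (b : G) * ((b' : G) * v₀ * (b' : G)⁻¹) * (b : G)⁻¹
        = ((b : G) * b') * v₀ * ((b : G) * b')⁻¹ := by group
      _ = z * ((b' : G) * ((b : G) * v₀ * (b : G)⁻¹) * (b' : G)⁻¹) * z⁻¹ := by rw [hzb]; group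
      _ = z * ((b' : G) * v₀ * (b' : G)⁻¹) * z⁻¹ := by rw [hbv]
      _ = (b' : G) * v₀ * (b' : G)⁻¹ := by
          rw [← mem_centralizer_iff.1 hz _ hw', mul_inv_cancel_right]
  -- involutory stabilizer elements are trivial
  have htwo : ∀ g ∈ NA, g * v₀ * g⁻¹ = v₀ → g * g ∈ CA → g ∈ CA := by
    intro g hg hgv hg2
    obtain ⟨w, ⟨hwA, hwC⟩, hw1, hwv⟩ : ∃ w ∈ A ⊓ centralizer ({g} : Set G), w ≠ 1 ∧ w ≠ v₀ := by
      by_contra hno
      push Not at hno
      have hsub : ((A ⊓ centralizer ({g} : Set G) : Subgroup G) : Set G) ⊆ {1, v₀} := fun x hx => by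
        rcases eq_or_ne x 1 with h | h
        · exact Or.inl h
        · exact Or.inr (hno x hx h)
      have h4 := e.toClosed.four_fixed hg hg2
      have h5 := (Set.ncard_le_ncard hsub (Set.toFinite _)).trans (Set.ncard_pair (Ne.symm hv₀1)).le
      rw [← Nat.card_coe_set_eq] at h5
      have h6 : 2 ^ 2 ≤ 2 := h4.trans h5
      norm_num at h6
    obtain ⟨b, hb, hbw⟩ := hBtr w hwA hw1
    -- the elements of `B` commuting with `g` modulo `C(A)`
    let K : Subgroup NA :=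
      { carrier := {x | x ∈ B ∧ g * x * g⁻¹ * (x : G)⁻¹ ∈ CA}
        one_mem' := ⟨one_mem _, by simp⟩
        mul_mem' := fun {x y} hx hy => ⟨mul_mem hx.1 hy.1, by
          have h := mul_mem hx.2 (hCn x x.2 _ hy.2)
          simpa [mul_assoc] using h⟩
        inv_mem' := fun {x} hx => ⟨inv_mem hx.1, by
          have h := hCn _ (inv_mem x.2) _ (inv_mem hx.2)
          simpa [mul_assoc] using h⟩ }
    have hbK : b ∈ K := by
      refine ⟨hb, ?_⟩
      have hgn : (⟨g, hg⟩ : NA) * b * (⟨g, hg⟩ : NA)⁻¹ ∈ B := (inferInstance : B.Normal).conj_mem b hb _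
      have hd : (b : G)⁻¹ * (g * b * g⁻¹) ∈ CA := by
        refine hreg (b⁻¹ * ((⟨g, hg⟩ : NA) * b * (⟨g, hg⟩ : NA)⁻¹)) (mul_mem (inv_mem hb) hgn) ?_
        show (b : G)⁻¹ * (g * b * g⁻¹) * v₀ * ((b : G)⁻¹ * (g * b * g⁻¹))⁻¹ = v₀
        have e1 : g * ((b : G) * v₀ * (b : G)⁻¹) * g⁻¹ = (b : G) * v₀ * (b : G)⁻¹ := by
          rw [hbw, ← mem_centralizer_singleton_iff.1 hwC, mul_inv_cancel_right]
        have e2 : g⁻¹ * v₀ * g = v₀ := by
          conv_lhs => rw [← hgv]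
          group
        calc (b : G)⁻¹ * (g * b * g⁻¹) * v₀ * ((b : G)⁻¹ * (g * b * g⁻¹))⁻¹
            = (b : G)⁻¹ * (g * ((b : G) * (g⁻¹ * v₀ * g) * (b : G)⁻¹) * g⁻¹) * b := by group
          _ = v₀ := by rw [e2, e1]; group
      have := hCn b b.2 _ hd
      simpa [mul_assoc] using this
    have hKB : ∀ x ∈ B, x ∈ K := by
      have hCK : CA.subgroupOf NA ≤ K := fun x hx => ⟨hCB x hx, mul_mem (hCn g hg _ hx) (inv_mem hx)⟩
      have hle : K ≤ B := fun x hx => hx.1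
      have hi : (CA.subgroupOf NA).relIndex B = p := by
        have h1 := CfsgLib.PPrimeAb.index_of_transitive (N := B.map NA.subtype) (v := v₀)
          (S := (A : Set G) \ {1})
          (fun n hn => by
            obtain ⟨n, -, rfl⟩ := hn
            exact ⟨(mem_normalizer_iff.1 n.2 _).1 hv₀, fun h => hv₀1 (conj_eq_one_iff.1 h)⟩)
          fun w hw => by
            obtain ⟨x, hx, hxw⟩ := hBtr w hw.1 hw.2
            exact ⟨x, mem_map_of_mem _ hx, hxw⟩
        rw [hSh] at h1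
        have h2 : CA.subgroupOf NA ⊓ B = St ⊓ B := by
          ext x
          simp only [mem_inf, St, mem_subgroupOf, mem_centralizer_singleton_iff]
          refine ⟨fun ⟨h, hx⟩ => ⟨(mem_centralizer_iff.1 h v₀ hv₀).symm, hx⟩, fun ⟨h, hx⟩ => ⟨?_, hx⟩⟩
          exact hreg x hx (by rw [h, mul_inv_cancel_right])
        rw [← inf_relIndex_right, h2, inf_relIndex_right]
        show ((centralizer ({v₀} : Set G)).comap NA.subtype).relIndex B = p
        rw [relIndex_comap]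
        exact h1
      intro x hx
      by_contra hxK
      have hd := relIndex_dvd_of_le_left B hCK
      rw [hi] at hd
      rcases (Nat.dvd_prime hp.out).1 hd with h | h
      · exact hxK (relIndex_eq_one.1 h hx)
      · have hmulrel := relIndex_mul_relIndex _ _ _ hCK hle
        rw [hi, h] at hmulrel
        have h1 : (CA.subgroupOf NA).relIndex K = 1 := Nat.eq_of_mul_eq_mul_right hp.out.pos (by rw [hmulrel, one_mul])
        have hbC : (b : G) ∈ CA := mem_subgroupOf.1 (relIndex_eq_one.1 h1 hbK)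
        exact hwv (by rw [← hbw, ← mem_centralizer_iff.1 hbC v₀ hv₀, mul_inv_cancel_right])
    refine mem_centralizer_iff.2 fun u hu => ?_
    rcases eq_or_ne u 1 with rfl | hu1
    · simp
    obtain ⟨x, hx, rfl⟩ := hBtr u hu hu1
    obtain ⟨-, hxz⟩ := hKB x hx
    set z := g * x * g⁻¹ * (x : G)⁻¹ with hz
    refine (mul_inv_eq_iff_eq_mul.1 ?_).symm
    calc g * ((x : G) * v₀ * (x : G)⁻¹) * g⁻¹
        = (g * x * g⁻¹) * (g * v₀ * g⁻¹) * (g * x * g⁻¹)⁻¹ := by group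
      _ = z * ((x : G) * v₀ * (x : G)⁻¹) * z⁻¹ := by rw [hgv, hz]; group
      _ = (x : G) * v₀ * (x : G)⁻¹ := by rw [← mem_centralizer_iff.1 hxz _ hu, mul_inv_cancel_right]
  have hstab0 : ∀ g ∈ NA, g * v₀ * g⁻¹ = v₀ → g ∈ CA := by
    intro h hh hhv
    by_contra hhC
    have hex : ∃ j, 0 < j ∧ h ^ j ∈ CA :=
      ⟨orderOf h, orderOf_pos h, by rw [pow_orderOf_eq_one]; exact one_mem _⟩
    obtain ⟨hj0, hjC⟩ := Nat.find_spec hex
    set j := Nat.find hex
    have hj1 : j ≠ 1 := fun h1 => hhC (by rwa [h1, pow_one] at hjC)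
    obtain ⟨r, hr, hrj⟩ := Nat.exists_prime_and_dvd hj1
    set g := h ^ (j / r)
    have hgN : g ∈ NA := pow_mem hh _
    have hgC : g ∉ CA := fun hg => absurd ⟨Nat.div_pos (Nat.le_of_dvd hj0 hrj) hr.pos, hg⟩
      (Nat.find_min hex (Nat.div_lt_self hj0 hr.one_lt))
    have hgr : g ^ r ∈ CA := by rwa [← pow_mul, Nat.div_mul_cancel hrj]
    have hgv : g * v₀ * g⁻¹ = v₀ := by
      have : Commute h v₀ := mul_inv_eq_iff_eq_mul.1 hhv
      rw [(this.pow_left (j / r)).eq, mul_inv_cancel_right]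
    rcases eq_or_ne r 2 with rfl | hr2
    · exact hgC (htwo g hgN hgv (by rwa [← pow_two]))
    obtain ⟨k, l, hl, hn⟩ := Nat.exists_eq_pow_mul_and_not_dvd (orderOf_pos g).ne' r hr.ne_one
    have hl0 : 0 < l := Nat.pos_of_ne_zero fun h => hl (h ▸ dvd_zero r)
    have hxo : orderOf (g ^ l) = r ^ k := by
      rw [orderOf_pow, hn, Nat.gcd_eq_right (dvd_mul_left _ _), Nat.mul_div_cancel _ hl0]
    refine hgC (CfsgLib.PPrimeAb.mem_of_pow_mem (hr.coprime_iff_not_dvd.2 hl) hgr ?_)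
    rcases eq_or_ne r p with rfl | hrp
    · refine e.toClosed.pElement_fix hcardA (pow_mem hgN _) hxo hv₀ hv₀1 ?_
      have : Commute g v₀ := mul_inv_eq_iff_eq_mul.1 hgv
      rw [(this.pow_left l).eq, mul_inv_cancel_right]
    · exact hodd _ (pow_mem hgN _) r hr hr2 hrp k hxo
  have hstab : ∀ v ∈ A, v ≠ 1 → ∀ n ∈ NA, n * v * n⁻¹ = v → n ∈ CA := by
    intro v hv hv1 n hn hnv
    obtain ⟨g, hg, rfl⟩ := htr v₀ hv₀ hv₀1 v hv hv1
    have h := hstab0 (g⁻¹ * n * g) (mul_mem (mul_mem (inv_mem hg) hn) hg) (by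
      calc g⁻¹ * n * g * v₀ * (g⁻¹ * n * g)⁻¹ = g⁻¹ * (n * (g * v₀ * g⁻¹) * n⁻¹) * g := by group
        _ = v₀ := by rw [hnv]; group)
    simpa [mul_assoc] using hCn g hg _ h
  have hSN : (S : Subgroup G) ≤ NA := e.toClosed.sylow_le_normalizer
  have hScent : (S : Subgroup G) ≤ CA := by
    haveI : Group.IsNilpotent (S : Subgroup G) := S.2.isNilpotent
    haveI : (A.subgroupOf (S : Subgroup G)).Normal := (normal_subgroupOf_iff_le_normalizer e.hsc.1).2 hSN
    obtain ⟨z, ⟨hzA, hzS⟩, hz1⟩ := (bot_or_exists_ne_one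
      (A.subgroupOf (S : Subgroup G) ⊓ center (S : Subgroup G))).resolve_left
        (CfsgLib.PGroupBasic.inf_center_ne_bot _ fun h => e.toClosed.ne_bot (by
          rw [← map_subgroupOf_eq_of_le e.hsc.1, h, Subgroup.map_bot]))
    intro s hs
    refine hstab z hzA (fun h => hz1 (Subtype.ext h)) s (hSN hs) ?_
    have : s * (z : G) = z * s := congrArg Subtype.val (mem_center_iff.1 hzS ⟨s, hs⟩)
    rw [this, mul_inv_cancel_right]
  refine ⟨S, A, M, ⟨e, hse, hmax, fun i hi ho => c.invC e hi ho, hcardA, htr, hstab, hScent, ?_⟩⟩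
  haveI := c.solvable e.hM.1
  refine (CfsgLib.SolvableClosed.le_sup_normalizer e.A_le e.hA.1 (S.subtype e.sylow_le) ?_).trans
    (sup_le le_sup_left (inf_le_right.trans le_sup_right))
  exact ⟨fun x hx => e.hsc.1 hx, fun x hx l hl => e.hsc.2 _ hx l hl⟩

end CfsgLib.PPrimeNil
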