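import Cfsg.Prelude.Def_TwoFusion
import Cfsg.Agent.Solvable.Fitting
import Cfsg.Agent.ZJ.Constrained
import Cfsg.Agent.PPrimeAbelian.Basic
import Cfsg.Agent.S1250

/-!
In a solvable group, an abelian subgroup strongly closed in a Sylow `2`-subgroup is normal modulo the
odd core.
-/

set_option autoImplicit false
set_option linter.style.haveILetI false
set_option linter.unusedSectionVars false

namespace CfsgLib.SolvableClosed

open Subgroup

universe u

variable {L : Type u} [Group L] [Finite L] [Group.IsSolvable L]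

/-- With trivial odd core, a strongly closed abelian subgroup of a Sylow `2`-subgroup is normal. -/
theorem normal_of_core_eq_bot (hO : Cfsg.pPrimeCore 2 L = ⊥) (T : Sylow 2 L) {U : Subgroup L}
    (hU : IsMulCommutative U) (hsc : Cfsg.IsStronglyClosed U (T : Subgroup L)) : U.Normal := by
  haveI : Fact (Nat.Prime 2) := ⟨Nat.prime_two⟩
  haveI := hU
  set Q := Cfsg.pCore 2 L
  haveI hQn : Q.Normal := (CfsgLib.Solvable.pCore_spec 2).1
  have hQp : IsPGroup 2 Q := CfsgLib.Solvable.isPGroup_pCore 2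
  have hQT : Q ≤ T := CfsgLib.Fitting.pCore_le_sylow T
  have hCQ : centralizer (Q : Set L) ≤ Q := CfsgLib.Fitting.centralizer_pCore_le hO
  set B := U ⊓ Q
  have hBn : ∀ g : L, ∀ x ∈ B, g * x * g⁻¹ ∈ B := fun g x hx =>
    ⟨hsc.2 x hx.1 g (hQT (hQn.conj_mem x hx.2 g)), hQn.conj_mem x hx.2 g⟩
  -- the stabilizer of `1 ≤ B ≤ Q`
  let K : Subgroup L :=
    { carrier := {k | k ∈ centralizer (B : Set L) ∧ ∀ q ∈ Q, k * q * k⁻¹ * q⁻¹ ∈ B}
      one_mem' := ⟨one_mem _, fun q _ => by simp⟩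
      mul_mem' := fun {k l} hk hl => ⟨mul_mem hk.1 hl.1, fun q hq => by
        have h := mul_mem (hBn k _ (hl.2 q hq)) (hk.2 q hq)
        rwa [show k * l * q * (k * l)⁻¹ * q⁻¹ = k * (l * q * l⁻¹ * q⁻¹) * k⁻¹ * (k * q * k⁻¹ * q⁻¹) by
          group]⟩
      inv_mem' := fun {k} hk => ⟨inv_mem hk.1, fun q hq => by
        have h := hBn k⁻¹ _ (inv_mem (hk.2 q hq))
        rwa [show k⁻¹ * q * k⁻¹⁻¹ * q⁻¹ = k⁻¹ * (k * q * k⁻¹ * q⁻¹)⁻¹ * k⁻¹⁻¹ by group]⟩ }
  have hKn : ∀ g : L, ∀ k ∈ K, g * k * g⁻¹ ∈ K := by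
    intro g k hk
    refine ⟨mem_centralizer_iff.2 fun b hb => ?_, fun q hq => ?_⟩
    · have hb' : g⁻¹ * b * g ∈ B := by simpa using hBn g⁻¹ b hb
      have e := mem_centralizer_iff.1 hk.1 _ hb'
      calc b * (g * k * g⁻¹) = g * (g⁻¹ * b * g * k) * g⁻¹ := by group
        _ = g * (k * (g⁻¹ * b * g)) * g⁻¹ := by rw [e]
        _ = g * k * g⁻¹ * b := by group
    · have hq' : g⁻¹ * q * g ∈ Q := by simpa using hQn.conj_mem q hq g⁻¹
      have h := hBn g _ (hk.2 _ hq')
      rwa [show g * k * g⁻¹ * q * (g * k * g⁻¹)⁻¹ * q⁻¹ =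
        g * (k * (g⁻¹ * q * g) * k⁻¹ * (g⁻¹ * q * g)⁻¹) * g⁻¹ by group]
  -- elements of odd order of `K` are trivial
  have hodd : ∀ k ∈ K, Odd (orderOf k) → k = 1 := by
    intro k hk hko
    have hkQ : k ∈ centralizer (Q : Set L) := by
      refine mem_centralizer_iff.2 fun q hq => ?_
      set z := k * q * k⁻¹ * q⁻¹ with hz
      have hzB : z ∈ B := hk.2 q hq
      have hcz : Commute k z := (mem_centralizer_iff.1 hk.1 z hzB).symm
      have hn : ∀ n : ℕ, k ^ n * q * (k ^ n)⁻¹ = z ^ n * q := by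
        intro n
        induction n with
        | zero => simp
        | succ n ih =>
          calc k ^ (n + 1) * q * (k ^ (n + 1))⁻¹ = k * (k ^ n * q * (k ^ n)⁻¹) * k⁻¹ := by
                rw [pow_succ']; group
            _ = (k * z ^ n) * q * k⁻¹ := by rw [ih]; group
            _ = z ^ n * (k * q * k⁻¹) := by rw [(hcz.pow_right n).eq]; group
            _ = z ^ (n + 1) * q := by rw [pow_succ, hz]; group
      have h1 : z ^ orderOf k = 1 := by
        have := hn (orderOf k)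
        rw [pow_orderOf_eq_one, one_mul, inv_one, mul_one] at this
        exact right_eq_mul.1 this
      obtain ⟨j, hj⟩ := IsPGroup.iff_card.1 hQp
      have hz1 : z = 1 := orderOf_eq_one_iff.1 (Nat.eq_one_of_dvd_coprimes
        ((Nat.coprime_two_right.2 hko).pow_right j) (orderOf_dvd_of_pow_eq_one h1)
        (hj ▸ Subgroup.orderOf_dvd_natCard Q hzB.2))
      have : k * q * k⁻¹ = q := mul_inv_eq_one.1 hz1
      exact (mul_inv_eq_iff_eq_mul.1 this).symm
    obtain ⟨j, hj⟩ := IsPGroup.iff_card.1 hQp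
    exact orderOf_eq_one_iff.1 (Nat.eq_one_of_dvd_coprimes ((Nat.coprime_two_right.2 hko).pow_right j)
      dvd_rfl (hj ▸ Subgroup.orderOf_dvd_natCard Q (hCQ hkQ)))
  have hK2 : IsPGroup 2 K := by
    intro k
    obtain ⟨a, l, hl, hn⟩ := Nat.exists_eq_pow_mul_and_not_dvd (orderOf_pos (k : L)).ne' 2 (by norm_num)
    refine ⟨a, Subtype.ext ?_⟩
    rw [Subgroup.coe_pow]
    refine hodd _ (pow_mem k.2 _) ?_
    rw [orderOf_pow, hn, Nat.gcd_eq_right (dvd_mul_right _ _), Nat.mul_div_cancel_left _ (by positivity)]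
    exact Nat.not_even_iff_odd.1 fun he => hl he.two_dvd
  have hKQ : K ≤ Q := CfsgLib.Solvable.le_pCore 2 ⟨fun n hn g => hKn g n hn⟩ hK2
  have hTU : (T : Subgroup L) ≤ normalizer (U : Set L) := fun t ht =>
    mem_normalizer_iff_map_conj_eq.2 (CfsgLib.Solvable.eq_of_le_of_card_le (by
      rintro _ ⟨x, hx, rfl⟩
      exact hsc.2 x hx t (mul_mem (mul_mem ht (hsc.1 hx)) (inv_mem ht)))
      (card_map_of_injective (MulAut.conj t).injective).ge)
  have hUK : U ≤ K := fun u hu => ⟨mem_centralizer_iff.2 fun b hb => setLike_mul_comm hb.1 hu,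
    fun q hq => ⟨by
      have := mul_mem hu ((mem_normalizer_iff.1 (hTU (hQT hq)) u⁻¹).1 (inv_mem hu))
      simpa [mul_assoc] using this,
      mul_mem (hQn.conj_mem q hq u) (Q.inv_mem hq)⟩⟩
  exact ⟨fun x hx g => (hBn g x ⟨hx, hKQ (hUK hx)⟩).1⟩

/-- A solvable group is the product of its odd core and the normalizer of an abelian subgroup that is
strongly closed in a Sylow `2`-subgroup. -/
theorem sup_normalizer_eq_top (T : Sylow 2 L) {U : Subgroup L} (hU : IsMulCommutative U)
    (hsc : Cfsg.IsStronglyClosed U (T : Subgroup L)) :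
    Cfsg.pPrimeCore 2 L ⊔ normalizer (U : Set L) = ⊤ := by
  haveI : Fact (Nat.Prime 2) := ⟨Nat.prime_two⟩
  set N := Cfsg.pPrimeCore 2 L
  haveI : N.Normal := (CfsgLib.Solvable.pPrimeCore_spec 2).1
  have hcop : (Nat.card N).Coprime 2 := CfsgLib.Solvable.coprime_card_pPrimeCore 2
  set π := QuotientGroup.mk' N
  haveI : Group.IsSolvable (L ⧸ N) := Group.isSolvable_of_surjective (QuotientGroup.mk'_surjective N)
  set Tb := T.mapSurjective (f := π) (QuotientGroup.mk'_surjective N)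
  haveI := hU
  have hn : (U.map π).Normal := normal_of_core_eq_bot (CfsgLib.Fitting.pPrimeCore_quotient_eq_bot 2) Tb
    (Subgroup.map_isMulCommutative U π) (Cfsg.Agent.S1250.result T U hsc N)
  have hcm : (U.map π).comap π = U ⊔ N := by rw [comap_map_eq, QuotientGroup.ker_mk']
  rw [eq_top_iff]
  intro g _
  have hg : g ∈ normalizer ((U ⊔ N : Subgroup L) : Set L) := by
    haveI := hn
    rw [← hcm, normalizer_eq_top (H := (U.map π).comap π)]
    exact mem_top g
  obtain ⟨n, hn, hng⟩ := CfsgLib.ZJ.exists_mul_mem_normalizer (T.2.to_le hsc.1) hcop hg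
  rw [show g = n⁻¹ * (n * g) by group]
  exact mul_mem (mem_sup_left (inv_mem hn)) (mem_sup_right hng)

variable {G : Type u} [Group G] [Finite G]

/-- The relative form inside an ambient group. -/
theorem le_sup_normalizer {X U : Subgroup G} [Group.IsSolvable X] (hUX : U ≤ X)
    (hU : IsMulCommutative U) (T : Sylow 2 X)
    (hsc : Cfsg.IsStronglyClosed (U.subgroupOf X) (T : Subgroup X)) :
    X ≤ CfsgLib.PPrimeAb.core 2 X ⊔ (X ⊓ normalizer (U : Set G)) := by
  haveI := hU
  have hc : IsMulCommutative (U.subgroupOf X) := ⟨⟨fun a b => Subtype.ext (Subtype.ext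
    (setLike_mul_comm (s := U) a.2 b.2))⟩⟩
  have h := congrArg (Subgroup.map X.subtype) (sup_normalizer_eq_top T hc hsc)
  rw [Subgroup.map_sup, ← MonoidHom.range_eq_map, range_subtype] at h
  refine h.ge.trans (sup_le le_sup_left (le_trans (le_inf (map_subtype_le _) ?_) le_sup_right))
  have := le_normalizer_map (H := U.subgroupOf X) X.subtype
  rwa [map_subgroupOf_eq_of_le hUX] at this

end CfsgLib.SolvableClosed
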