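import Cfsg.Agent.PPrimeNil.Closed
import Cfsg.Agent.PPrimeNil.SolvableClosed
import Cfsg.Agent.Signalizer.Local
import Cfsg.Agent.Signalizer.Basic
import Cfsg.Agent.S0217
import Cfsg.Agent.S1249

/-!
A maximal subgroup containing the centralizers of the involutions of the strongly closed subgroup.
-/

set_option autoImplicit false
set_option linter.style.haveILetI false
set_option linter.unusedSectionVars false

namespace CfsgLib.PPrimeNil

open Subgroup

universe u

variable {G : Type u} [Group G] [Finite G] {p : ℕ} [hp : Fact p.Prime]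

/-- The maximal subgroup `M` attached to a large strongly closed subgroup `A`. -/
structure Loc (S : Sylow 2 G) (A M : Subgroup G) : Prop extends Closed S A where
  hM : IsCoatom M
  hNA : normalizer (A : Set G) ≤ M
  hC : ∀ a ∈ A, a ≠ 1 → centralizer ({a} : Set G) ≤ M

variable {S : Sylow 2 G} {A M : Subgroup G}

theorem Closed.hAS (e : Closed S A) : A ≤ (S : Subgroup G) := e.hsc.1

theorem Closed.sylow_le_normalizer (e : Closed S A) : (S : Subgroup G) ≤ normalizer (A : Set G) :=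
  haveI : Fact (Nat.Prime 2) := ⟨Nat.prime_two⟩
  CfsgLib.StronglyClosed.sylow_le_normalizer e.hsc

theorem Closed.orderOf_eq (e : Closed S A) {a : G} (ha : a ∈ A) (ha1 : a ≠ 1) : orderOf a = 2 :=
  haveI : Fact (Nat.Prime 2) := ⟨Nat.prime_two⟩
  orderOf_eq_prime (e.hA.2 a ha) ha1

theorem Closed.ne_bot (e : Closed S A) : A ≠ ⊥ := fun h => by
  have := e.h8
  rw [h, card_bot] at this
  norm_num at this

theorem Closed.exists_mem (e : Closed S A) : ∃ a ∈ A, a ≠ 1 :=
  (bot_or_exists_ne_one A).resolve_left e.ne_bot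

theorem Loc.A_le (e : Loc S A M) : A ≤ M := le_normalizer.trans e.hNA

theorem Loc.sylow_le (e : Loc S A M) : (S : Subgroup G) ≤ M :=
  e.toClosed.sylow_le_normalizer.trans e.hNA

/-- An element moving an involution of `A` into `A` lies in `M`. -/
theorem Loc.mem_of_conj (e : Loc S A M) {a g : G} (ha : a ∈ A) (ha1 : a ≠ 1) (hg : g * a * g⁻¹ ∈ A) :
    g ∈ M := by
  obtain ⟨n, hn, hne⟩ := exists_normalizer_conj e.hA.1 e.hsc ha hg
  have h : n⁻¹ * g ∈ centralizer ({a} : Set G) := by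
    rw [mem_centralizer_singleton_iff]
    calc n⁻¹ * g * a = n⁻¹ * (g * a * g⁻¹) * g := by group
      _ = n⁻¹ * (n * a * n⁻¹) * g := by rw [hne]
      _ = a * (n⁻¹ * g) := by group
  simpa using mul_mem (e.hNA hn) (e.hC a ha ha1 h)

variable (c : Ctx p G)
include c

/-- Existence of the maximal subgroup. -/
theorem Ctx.exists_loc : ∃ (S : Sylow 2 G) (A M : Subgroup G), Loc S A M := by
  haveI : Fact (Nat.Prime 2) := ⟨Nat.prime_two⟩
  obtain ⟨S, A, e⟩ := c.exists_closed
  set θ : G → Subgroup G := fun a => Cfsg.centralizerPPrimeCore 2 a with hθ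
  have hle : ∀ a : G, θ a ≤ centralizer {a} := fun a => CfsgLib.Signalizer.mem_centralizerPPrimeCore_le
  have hodd : ∀ a : G, ¬ 2 ∣ Nat.card (θ a) := fun a h => (Fact.out : Nat.Prime 2).ne_one
    (Nat.eq_one_of_dvd_coprimes (CfsgLib.Signalizer.coprime_card_centralizerPPrimeCore (p := 2) a) h dvd_rfl)
  have hsol : ∀ a : G, a ≠ 1 → Group.IsSolvable (centralizer ({a} : Set G)) := fun a ha =>
    c.solvable (c.centralizer_ne_top ha)
  have hW := (Cfsg.Agent.S0217.result (p := 2) A (fun a ha b hb => CfsgLib.Signalizer.commute e.hA ha hb)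
    e.hA.2 e.h8 θ (fun a _ _ => hle a) (fun a _ _ => hodd a)
    (fun a ha _ => CfsgLib.Signalizer.conj_mem_of_le_normalizer
      ((CfsgLib.Signalizer.le_centralizer_singleton e.hA ha).trans
        (CfsgLib.Signalizer.centralizer_le_normalizer_centralizerPPrimeCore a)))
    (fun a _ ha1 => by
      haveI := hsol a ha1
      exact Group.isSolvable_of_isSolvable_injective (f := inclusion (hle a)) (inclusion_injective _))
    fun a ha _ b hb hb1 => CfsgLib.Signalizer.centralizerPPrimeCore_inf_le (e.hA.2 a ha)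
      (CfsgLib.Signalizer.commute e.hA ha hb) (hsol b hb1)).1
  set W : Subgroup G := ⨆ a : {a : G // a ∈ A ∧ a ≠ 1}, θ a
  have hNW : normalizer (A : Set G) ≤ normalizer (W : Set G) := by
    intro g hg
    refine mem_normalizer_iff_map_conj_eq.2 (CfsgLib.Solvable.eq_of_le_of_card_le ?_
      (card_map_of_injective (MulAut.conj g).injective).ge)
    rw [Subgroup.map_iSup]
    refine iSup_le fun a => ?_
    set b := g * (a : G) * g⁻¹
    have hb : b ∈ A := (mem_normalizer_iff.1 hg _).1 a.2.1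
    have hb1 : b ≠ 1 := fun h => a.2.2 (conj_eq_one_iff.1 h)
    refine le_trans ?_ (le_iSup (fun a : {a : G // a ∈ A ∧ a ≠ 1} => θ a) ⟨b, hb, hb1⟩)
    have hC : (centralizer ({(a : G)} : Set G)).map (MulAut.conj g).toMonoidHom = centralizer {b} := by
      ext x
      rw [CfsgLib.PPrimeAb.mem_map_conj, mem_centralizer_singleton_iff, mem_centralizer_singleton_iff]
      constructor
      · intro h
        calc x * b = g * (g⁻¹ * x * g * (a : G)) * g⁻¹ := by simp [b, mul_assoc]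
          _ = g * ((a : G) * (g⁻¹ * x * g)) * g⁻¹ := by rw [h]
          _ = b * x := by simp [b, mul_assoc]
      · intro h
        calc g⁻¹ * x * g * (a : G) = g⁻¹ * (x * b) * g := by simp [b, mul_assoc]
          _ = g⁻¹ * (b * x) * g := by rw [h]
          _ = (a : G) * (g⁻¹ * x * g) := by simp [b, mul_assoc]
    show (CfsgLib.PPrimeAb.core 2 (centralizer ({(a : G)} : Set G))).map _ ≤
      CfsgLib.PPrimeAb.core 2 (centralizer {b})
    rw [← hC]
    exact CfsgLib.PPrimeAb.core_conj_le _ g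
  obtain ⟨M, hM, hNA, hWM⟩ : ∃ M : Subgroup G, IsCoatom M ∧ normalizer (A : Set G) ≤ M ∧ W ≤ M := by
    have hWtop : W ≠ ⊤ := fun h => hW (by rw [h, card_top]; exact c.two_dvd)
    by_cases hW1 : W = ⊥
    · obtain ⟨M, hM, hle'⟩ := (eq_top_or_exists_le_coatom _).resolve_left
        (c.normalizer_ne_top_of_isPGroup (CfsgLib.Signalizer.isPGroup e.hA) e.ne_bot)
      exact ⟨M, hM, hle', hW1 ▸ bot_le⟩
    · obtain ⟨M, hM, hle'⟩ := (eq_top_or_exists_le_coatom _).resolve_left
        (c.normalizer_ne_top hW1 hWtop)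
      exact ⟨M, hM, hNW.trans hle', le_normalizer.trans hle'⟩
  refine ⟨S, A, M, ⟨e, hM, hNA, fun a ha ha1 => ?_⟩⟩
  haveI := hsol a ha1
  have hAC : A ≤ centralizer ({a} : Set G) := CfsgLib.Signalizer.le_centralizer_singleton e.hA ha
  obtain ⟨T, hT⟩ := ((CfsgLib.Signalizer.isPGroup e.hA).comap_subtype
    (K := centralizer ({a} : Set G))).exists_le_sylow
  obtain ⟨S', hS'⟩ := (T.2.map (centralizer ({a} : Set G)).subtype).exists_le_sylow
  have hAS' : A ≤ (S' : Subgroup G) := fun x hx => hS' ⟨⟨x, hAC hx⟩, hT hx, rfl⟩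
  have hsc' := Cfsg.Agent.S1249.result S S' A hAS' e.hsc
  refine le_trans (CfsgLib.SolvableClosed.le_sup_normalizer hAC e.hA.1 T
    ⟨hT, fun x hx l hl => hsc'.2 _ hx l (hS' ⟨_, hl, rfl⟩)⟩) (sup_le ?_ (inf_le_right.trans hNA))
  exact le_trans (le_iSup (fun a : {a : G // a ∈ A ∧ a ≠ 1} => θ a) ⟨a, ha, ha1⟩) hWM

variable (e : Loc S A M)
include e

/-- A proper subgroup containing a four-group of `A` lies in `M`. -/
theorem Ctx.le_of_four {X V : Subgroup G} (hX : X ≠ ⊤) (hVX : V ≤ X) (hVA : V ≤ A)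
    (hV4 : 2 ^ 2 ≤ Nat.card V) : X ≤ M := by
  haveI : Fact (Nat.Prime 2) := ⟨Nat.prime_two⟩
  haveI := c.solvable hX
  have hV := CfsgLib.Signalizer.of_le e.hA hVA
  obtain ⟨T, hT⟩ := ((CfsgLib.Signalizer.isPGroup hV).comap_subtype (K := X)).exists_le_sylow
  obtain ⟨S', hS'⟩ := (T.2.map X.subtype).exists_le_sylow
  have hVS' : V ≤ (S' : Subgroup G) := fun v hv => hS' ⟨⟨v, hVX hv⟩, hT hv, rfl⟩
  obtain ⟨g, hg⟩ := MulAction.exists_smul_eq G S S'
  have hmem : ∀ x : G, x ∈ (S' : Subgroup G) ↔ g⁻¹ * x * g ∈ (S : Subgroup G) := fun x => by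
    rw [← hg, Sylow.coe_subgroup_smul, Subgroup.mem_pointwise_smul_iff_inv_smul_mem]
    simp [mul_assoc]
  have hback : ∀ x ∈ A, ∀ l : G, g⁻¹ * (l * x * l⁻¹) * g ∈ (S : Subgroup G) →
      g⁻¹ * (l * x * l⁻¹) * g ∈ A := fun x hx l h => by
    have := e.hsc.2 x hx (g⁻¹ * l) (by simpa [mul_assoc] using h)
    simpa [mul_assoc] using this
  have hVA' : ∀ v ∈ V, g⁻¹ * v * g ∈ A := fun v hv => by
    simpa using hback v (hVA hv) 1 (by simpa using (hmem v).1 (hVS' hv))
  have hV1 : V ≠ ⊥ := fun h => by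
    rw [h, card_bot] at hV4
    norm_num at hV4
  obtain ⟨v₀, hv₀, hv₀1⟩ := (bot_or_exists_ne_one V).resolve_left hV1
  have hgM : g ∈ M := by
    have := e.mem_of_conj (g := g⁻¹) (hVA hv₀) hv₀1 (by simpa using hVA' v₀ hv₀)
    simpa using this
  set A' := A.map (MulAut.conj g).toMonoidHom with hA'
  set U := A' ⊓ X
  have hVU : V ≤ U := le_inf (fun v hv => CfsgLib.PPrimeAb.mem_map_conj.2 (hVA' v hv)) hVX
  have hA'S' : A' ≤ (S' : Subgroup G) := fun x hx =>
    (hmem x).2 (e.hsc.1 (CfsgLib.PPrimeAb.mem_map_conj.1 hx))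
  have hU : IsMulCommutative U := by
    haveI := e.hA.1
    haveI : IsMulCommutative A' := Subgroup.map_isMulCommutative A _
    exact ⟨⟨fun a b => Subtype.ext (setLike_mul_comm (s := A') a.2.1 b.2.1)⟩⟩
  have hTeq : (S' : Subgroup G).subgroupOf X = (T : Subgroup X) :=
    T.3 (S'.2.comap_subtype (K := X)) fun x hx => hS' ⟨x, hx, rfl⟩
  have hsc : Cfsg.IsStronglyClosed (U.subgroupOf X) (T : Subgroup X) := by
    refine ⟨fun x hx => hTeq ▸ hA'S' hx.1,
      fun x hx l hl => ⟨CfsgLib.PPrimeAb.mem_map_conj.2 ?_, (l * x * l⁻¹).2⟩⟩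
    have hx' := CfsgLib.PPrimeAb.mem_map_conj.1 (show (x : G) ∈ A' from hx.1)
    have hl' : ((l * x * l⁻¹ : X) : G) ∈ (S' : Subgroup G) :=
      mem_subgroupOf.1 (hTeq.symm.le hl)
    have := hback _ hx' ((l : G) * g) (by simpa [mul_assoc] using (hmem _).1 hl')
    simpa [mul_assoc] using this
  refine (CfsgLib.SolvableClosed.le_sup_normalizer inf_le_right hU T hsc).trans (sup_le ?_ ?_)
  · refine CfsgLib.Signalizer.le_of_forall_centralizer hV le_rfl hV4
      (hVX.trans (CfsgLib.PPrimeAb.le_normalizer_core X)) ?_ fun a ha ha1 => inf_le_right.trans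
        (e.hC a (hVA ha) ha1)
    exact fun h => (Fact.out : Nat.Prime 2).ne_one
      (Nat.eq_one_of_dvd_coprimes (CfsgLib.PPrimeAb.coprime_core X) h dvd_rfl)
  · rintro n ⟨-, hn⟩
    have h1 : n * v₀ * n⁻¹ ∈ U := (mem_normalizer_iff.1 hn v₀).1 (hVU hv₀)
    have h2 := CfsgLib.PPrimeAb.mem_map_conj.1 h1.1
    have h3 := e.mem_of_conj (g := g⁻¹ * n) (hVA hv₀) hv₀1 (by simpa [mul_assoc] using h2)
    simpa using mul_mem hgM h3

end CfsgLib.PPrimeNil
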