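import Cfsg.Agent.PPrimeNil.CaseTwoFinal

/-!
For a prime `p > 3`, a finite group in which every subgroup of order prime to `p` is nilpotent is solvable.
-/

set_option autoImplicit false
set_option linter.style.haveILetI false
set_option linter.unusedSectionVars false

namespace CfsgLib.PPrimeNil

open Subgroup

universe u

theorem no_ctx {G : Type u} [Group G] [Finite G] {p : ℕ} [hp : Fact p.Prime] (c : Ctx p G) : False := by
  obtain ⟨S, A, M, e⟩ := c.exists_emb
  by_cases hA : CfsgLib.PPrimeAb.core 2 M ≤ centralizer (A : Set G)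
  · exact c.no_two (c.two_of_centralize e hA)
  · exact c.false_of_not_centralize e hA

theorem solvable_aux (p : ℕ) [hp : Fact p.Prime] (hp5 : 5 ≤ p) : ∀ (n : ℕ) (G : Type u) [Group G] [Finite G],
    Nat.card G = n → Hyp p G → Group.IsSolvable G := by
  intro n
  induction n using Nat.strong_induction_on with
  | _ n ih =>
    intro G _ _ hn h
    subst hn
    have hsub : ∀ H : Subgroup G, H ≠ ⊤ → Group.IsSolvable H := fun H hH =>
      ih _ (CfsgLib.Solvable.card_lt_of_ne_top hH) H rfl (h.subgroup H)
    by_cases hab : IsMulCommutative G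
    · haveI := hab
      letI : CommGroup G := { (inferInstance : Group G) with mul_comm := hab.is_comm.comm }
      infer_instance
    haveI : Nontrivial G := by
      by_contra hs
      rw [not_nontrivial_iff_subsingleton] at hs
      exact hab ⟨⟨fun a b => Subsingleton.elim _ _⟩⟩
    by_cases hsimple : IsSimpleGroup G
    · by_contra hns
      exact no_ctx (p := p) (G := G) ⟨hp5, h, hsimple, hab, hsub⟩
    obtain ⟨N, hN, hN0, hN1⟩ : ∃ N : Subgroup G, N.Normal ∧ N ≠ ⊥ ∧ N ≠ ⊤ := by
      by_contra hno
      push Not at hno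
      exact hsimple ⟨fun N hN => (em (N = ⊥)).imp id fun h0 => hno N hN h0⟩
    haveI := hN
    exact solvable_of_normal h hsub N hN1 fun hq =>
      ih _ (CfsgLib.Solvable.card_quotient_lt hN0) (G ⧸ N) rfl hq

theorem solvable {G : Type u} [Group G] [Finite G] (p : ℕ) [Fact p.Prime] (hp5 : 5 ≤ p) (h : Hyp p G) :
    Group.IsSolvable G :=
  solvable_aux p hp5 _ G rfl h

end CfsgLib.PPrimeNil
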